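import Mathlib

/-!
# The extraspecial group of order 27 and exponent 3, inside a group

`R` is a subgroup of `X` of order 27 and exponent 3, `Z` a subgroup of `R` of order 3 which is
the centre of `R` and contains all commutators of `R`.
-/

set_option autoImplicit false

namespace Cfsg.Agent.Lib.Helper6.X648

variable {X : Type*} [Group X]

/-- the commutator `a b a⁻¹ b⁻¹` -/
def cm (a b : X) : X := a * b * a⁻¹ * b⁻¹

theorem cm_eq_one_iff (a b : X) : cm a b = 1 ↔ a * b = b * a := by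
  unfold cm
  constructor
  · intro h
    have : a * b * a⁻¹ * b⁻¹ * b * a = 1 * b * a := by rw [h]
    simpa [mul_assoc] using this
  · intro h
    rw [h]; group

theorem cm_self (a : X) : cm a a = 1 := by unfold cm; group

theorem cm_inv_swap (a b : X) : (cm a b)⁻¹ = cm b a := by unfold cm; group

theorem mul_eq_cm_mul (a b : X) : a * b = cm a b * (b * a) := by unfold cm; group

theorem cm_conj (g a b : X) : g * cm a b * g⁻¹ = cm (g * a * g⁻¹) (g * b * g⁻¹) := by
  unfold cm; group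

theorem cm_one_left (a : X) : cm 1 a = 1 := by unfold cm; group

theorem cm_one_right (a : X) : cm a 1 = 1 := by unfold cm; group

/-- the extraspecial setting -/
structure ES (R Z : Subgroup X) : Prop where
  le : Z ≤ R
  exp : ∀ r ∈ R, r ^ 3 = 1
  cardR : Nat.card R = 27
  cardZ : Nat.card Z = 3
  cm_mem : ∀ a ∈ R, ∀ b ∈ R, cm a b ∈ Z
  central : ∀ z ∈ Z, ∀ r ∈ R, z * r = r * z
  mem_of_central : ∀ r ∈ R, (∀ r' ∈ R, r * r' = r' * r) → r ∈ Z

namespace ES

variable {R Z : Subgroup X} (h : ES R Z)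
include h

theorem cm_comm {a b : X} (ha : a ∈ R) (hb : b ∈ R) {r : X} (hr : r ∈ R) :
    cm a b * r = r * cm a b := h.central _ (h.cm_mem a ha b hb) r hr

theorem cm_mul_left {a b c : X} (ha : a ∈ R) (hb : b ∈ R) (hc : c ∈ R) :
    cm (a * b) c = cm a c * cm b c := by
  have h1 : cm b c * a = a * cm b c := h.cm_comm hb hc ha
  calc cm (a * b) c = (a * cm b c) * c * a⁻¹ * c⁻¹ := by unfold cm; group
    _ = (cm b c * a) * c * a⁻¹ * c⁻¹ := by rw [h1]
    _ = cm b c * cm a c := by unfold cm; group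
    _ = cm a c * cm b c := h.cm_comm hb hc (h.le (h.cm_mem a ha c hc))

theorem cm_mul_right {a b c : X} (ha : a ∈ R) (hb : b ∈ R) (hc : c ∈ R) :
    cm a (b * c) = cm a b * cm a c := by
  have h1 : cm a c * b⁻¹ = b⁻¹ * cm a c := h.cm_comm ha hc (R.inv_mem hb)
  calc cm a (b * c) = cm a b * b * (cm a c * b⁻¹) := by unfold cm; group
    _ = cm a b * b * (b⁻¹ * cm a c) := by rw [h1]
    _ = cm a b * cm a c := by group

theorem cm_inv_left {a b : X} (ha : a ∈ R) (hb : b ∈ R) : cm a⁻¹ b = (cm a b)⁻¹ := by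
  have h1 := h.cm_mul_left (R.inv_mem ha) ha hb
  rw [inv_mul_cancel, cm_one_left] at h1
  exact eq_inv_of_mul_eq_one_left h1.symm

theorem cm_inv_right {a b : X} (ha : a ∈ R) (hb : b ∈ R) : cm a b⁻¹ = (cm a b)⁻¹ := by
  have h1 := h.cm_mul_right ha (R.inv_mem hb) hb
  rw [inv_mul_cancel, cm_one_right] at h1
  exact eq_inv_of_mul_eq_one_left h1.symm

theorem cm_pow_left {a b : X} (ha : a ∈ R) (hb : b ∈ R) (n : ℕ) : cm (a ^ n) b = (cm a b) ^ n := by
  induction n with
  | zero => simp [cm_one_left]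
  | succ n ih => rw [pow_succ, h.cm_mul_left (R.pow_mem ha n) ha hb, ih, pow_succ]

theorem cm_pow_right {a b : X} (ha : a ∈ R) (hb : b ∈ R) (n : ℕ) : cm a (b ^ n) = (cm a b) ^ n := by
  induction n with
  | zero => simp [cm_one_right]
  | succ n ih => rw [pow_succ, h.cm_mul_right ha (R.pow_mem hb n) hb, ih, pow_succ]

theorem cm_z_left {z a : X} (hz : z ∈ Z) (ha : a ∈ R) : cm z a = 1 :=
  (cm_eq_one_iff z a).mpr (h.central z hz a ha)

theorem cm_z_right {z a : X} (hz : z ∈ Z) (ha : a ∈ R) : cm a z = 1 :=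
  (cm_eq_one_iff a z).mpr (h.central z hz a ha).symm

theorem cm_mul_z_left {z a b : X} (hz : z ∈ Z) (ha : a ∈ R) (hb : b ∈ R) :
    cm (a * z) b = cm a b := by
  rw [h.cm_mul_left ha (h.le hz) hb, h.cm_z_left hz hb, mul_one]

theorem cm_mul_z_right {z a b : X} (hz : z ∈ Z) (ha : a ∈ R) (hb : b ∈ R) :
    cm a (b * z) = cm a b := by
  rw [h.cm_mul_right ha hb (h.le hz), h.cm_z_right hz ha, mul_one]

theorem z_pow_three {z : X} (hz : z ∈ Z) : z ^ 3 = 1 := h.exp z (h.le hz)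

/-- an element of `Z` whose square is trivial is trivial -/
theorem eq_one_of_sq {z : X} (hz : z ∈ Z) (h2 : z * z = 1) : z = 1 := by
  have h3 := h.z_pow_three hz
  have : z ^ 3 = z * z * z := by rw [pow_succ, pow_two]
  rw [this, h2, one_mul] at h3
  exact h3

/-- the elements of `Z` are the powers of a nontrivial element -/
theorem z_eq_pow {c : X} (hc : c ∈ Z) (hc1 : c ≠ 1) {z : X} (hz : z ∈ Z) :
    z = 1 ∨ z = c ∨ z = c ^ 2 := by
  classical
  haveI : Finite Z := Nat.finite_of_card_ne_zero (by rw [h.cardZ]; norm_num)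
  haveI : Fact (Nat.Prime 3) := ⟨Nat.prime_three⟩
  have hcyc : ∀ g : Z, g ∈ Subgroup.zpowers (⟨c, hc⟩ : Z) := by
    intro g
    have h1 : Subgroup.zpowers (⟨c, hc⟩ : Z) = ⊤ := by
      apply zpowers_eq_top_of_prime_card (p := 3) h.cardZ
      intro hh
      exact hc1 (congrArg Subtype.val hh)
    rw [h1]; trivial
  have h3 : (⟨c, hc⟩ : Z) ^ 3 = 1 := Subtype.ext (h.z_pow_three hc)
  obtain ⟨k, hk⟩ := (Subgroup.mem_zpowers_iff).mp (hcyc ⟨z, hz⟩)
  have hk' : z = c ^ k := by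
    have := congrArg Subtype.val hk
    simpa using this.symm
  have h3' : c ^ (3 : ℤ) = 1 := by
    have := h.z_pow_three hc
    exact_mod_cast this
  have hmod : c ^ k = c ^ (k % 3) := by
    conv_lhs => rw [← Int.emod_add_mul_ediv k 3]
    rw [zpow_add, zpow_mul, h3', one_zpow, mul_one]
  rw [hmod] at hk'
  have hr : 0 ≤ k % 3 := Int.emod_nonneg k (by norm_num)
  have hr' : k % 3 < 3 := Int.emod_lt_of_pos k (by norm_num)
  have : k % 3 = 0 ∨ k % 3 = 1 ∨ k % 3 = 2 := by omega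
  rcases this with h0 | h0 | h0
  · left; rw [hk', h0, zpow_zero]
  · right; left; rw [hk', h0, zpow_one]
  · right; right; rw [hk', h0]; norm_cast

theorem orderOf_z {c : X} (hc : c ∈ Z) (hc1 : c ≠ 1) : orderOf c = 3 := by
  have h3 := h.z_pow_three hc
  have hd : orderOf c ∣ 3 := orderOf_dvd_of_pow_eq_one h3
  rcases (Nat.dvd_prime Nat.prime_three).mp hd with h1 | h1
  · exact absurd (orderOf_eq_one_iff.mp h1) hc1
  · exact h1

theorem pow_inj_z {c : X} (hc : c ∈ Z) (hc1 : c ≠ 1) {a b : ℕ} (ha : a < 3) (hb : b < 3)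
    (hab : c ^ a = c ^ b) : a = b := by
  have ho := h.orderOf_z hc hc1
  have := (pow_inj_mod (x := c)).mp hab
  rw [ho, Nat.mod_eq_of_lt ha, Nat.mod_eq_of_lt hb] at this
  exact this

/-- coordinates: if `v`, `w` do not commute, every element of `R` is `v ^ a * w ^ b * z` -/
theorem coords {v w : X} (hv : v ∈ R) (hw : w ∈ R) (hvw : cm v w ≠ 1) (r : X) (hr : r ∈ R) :
    ∃ a b : ℕ, a < 3 ∧ b < 3 ∧ ∃ z ∈ Z, r = v ^ a * w ^ b * z := by
  classical
  haveI : Finite R := Nat.finite_of_card_ne_zero (by rw [h.cardR]; norm_num)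
  haveI : Finite Z := Nat.finite_of_card_ne_zero (by rw [h.cardZ]; norm_num)
  have hc := h.cm_mem v hv w hw
  let φ : Fin 3 × Fin 3 × Z → R := fun p =>
    ⟨v ^ p.1.val * w ^ p.2.1.val * p.2.2.1,
      R.mul_mem (R.mul_mem (R.pow_mem hv _) (R.pow_mem hw _)) (h.le p.2.2.2)⟩
  have key1 : ∀ (a b : ℕ) (z : X), z ∈ Z → cm v (v ^ a * w ^ b * z) = cm v w ^ b := by
    intro a b z hz
    rw [h.cm_mul_z_right hz hv (R.mul_mem (R.pow_mem hv _) (R.pow_mem hw _)),
      h.cm_mul_right hv (R.pow_mem hv _) (R.pow_mem hw _), h.cm_pow_right hv hv, cm_self, one_pow,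
      one_mul, h.cm_pow_right hv hw]
  have key2 : ∀ (a b : ℕ) (z : X), z ∈ Z → cm (v ^ a * w ^ b * z) w = cm v w ^ a := by
    intro a b z hz
    rw [h.cm_mul_z_left hz (R.mul_mem (R.pow_mem hv _) (R.pow_mem hw _)) hw,
      h.cm_mul_left (R.pow_mem hv _) (R.pow_mem hw _) hw, h.cm_pow_left hw hw, cm_self, one_pow,
      mul_one, h.cm_pow_left hv hw]
  have hinj : Function.Injective φ := by
    rintro ⟨a, b, z⟩ ⟨a', b', z'⟩ hpp
    have hpp' : v ^ a.val * w ^ b.val * z.1 = v ^ a'.val * w ^ b'.val * z'.1 :=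
      congrArg Subtype.val hpp
    have hb : b = b' := by
      have := congrArg (cm v) hpp'
      rw [key1 _ _ _ z.2, key1 _ _ _ z'.2] at this
      exact Fin.ext (h.pow_inj_z hc hvw b.2 b'.2 this)
    have ha : a = a' := by
      have : cm (v ^ a.val * w ^ b.val * z.1) w = cm (v ^ a'.val * w ^ b'.val * z'.1) w := by
        rw [hpp']
      rw [key2 _ _ _ z.2, key2 _ _ _ z'.2] at this
      exact Fin.ext (h.pow_inj_z hc hvw a.2 a'.2 this)
    subst ha; subst hb
    have hz : z = z' := Subtype.ext (mul_left_cancel hpp')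
    rw [hz]
  have hcard : Nat.card (Fin 3 × Fin 3 × Z) = Nat.card R := by
    rw [Nat.card_prod, Nat.card_prod, Nat.card_fin, h.cardZ, h.cardR]
  have hbij : Function.Bijective φ :=
    (Nat.bijective_iff_injective_and_card φ).mpr ⟨hinj, hcard⟩
  obtain ⟨⟨a, b, z⟩, hp⟩ := hbij.2 ⟨r, hr⟩
  exact ⟨a.val, b.val, a.2, b.2, z.1, z.2, (congrArg Subtype.val hp).symm⟩

/-- an element outside `Z` does not commute with some element of `R` -/
theorem exists_cm_ne_one {v : X} (hv : v ∈ R) (hvZ : v ∉ Z) : ∃ w ∈ R, cm v w ≠ 1 := by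
  by_contra hcon
  push Not at hcon
  exact hvZ (h.mem_of_central v hv (fun r hr => (cm_eq_one_iff v r).mp (hcon r hr)))

/-- the centralizer in `R` of an element outside `Z` -/
theorem centralizer_eq {v : X} (hv : v ∈ R) (hvZ : v ∉ Z) {a : X} (ha : a ∈ R)
    (hav : a * v = v * a) : ∃ k : ℕ, k < 3 ∧ ∃ z ∈ Z, a = v ^ k * z := by
  obtain ⟨w, hw, hvw⟩ := h.exists_cm_ne_one hv hvZ
  obtain ⟨k, b, hk, hb, z, hz, rfl⟩ := h.coords hv hw hvw a ha
  have h1 : cm v (v ^ k * w ^ b * z) = 1 := (cm_eq_one_iff _ _).mpr hav.symm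
  rw [h.cm_mul_z_right hz hv (R.mul_mem (R.pow_mem hv _) (R.pow_mem hw _)),
    h.cm_mul_right hv (R.pow_mem hv _) (R.pow_mem hw _), h.cm_pow_right hv hv, cm_self, one_pow,
    one_mul, h.cm_pow_right hv hw] at h1
  have hb0 : b = 0 := h.pow_inj_z (h.cm_mem v hv w hw) hvw hb (by norm_num) (by rw [h1, pow_zero])
  subst hb0
  exact ⟨k, hk, z, hz, by rw [pow_zero, mul_one]⟩

/-- a power of an element outside `Z` which lies in `Z` is trivial -/
theorem pow_not_mem {v : X} (hv : v ∈ R) (hvZ : v ∉ Z) {k : ℕ} (hk : k < 3) (hkZ : v ^ k ∈ Z) :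
    k = 0 := by
  interval_cases k
  · rfl
  · rw [pow_one] at hkZ; exact absurd hkZ hvZ
  · exfalso
    apply hvZ
    have h3 := h.exp v hv
    have : v = (v ^ 2) ^ 2 := by
      rw [← pow_mul]
      calc v = v ^ 3 * v := by rw [h3, one_mul]
        _ = v ^ (2 * 2) := by rw [← pow_succ]
    rw [this]
    exact Z.pow_mem hkZ 2

end ES

end Cfsg.Agent.Lib.Helper6.X648
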