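import Mathlib
import Cfsg.Agent.Lib.Helper6.X648.A1

/-!
# An involution acting on the extraspecial group of order 27, trivially on the centre

It inverts the quotient by the centre; the inverted elements form a transversal of the centre.
-/

set_option autoImplicit false

namespace Cfsg.Agent.Lib.Helper6.X648

variable {X : Type*} [Group X]

/-- the involution setting -/
structure Inv (R Z : Subgroup X) (t : X) : Prop where
  sq : t * t = 1
  norm : ∀ r ∈ R, t * r * t⁻¹ ∈ R
  cent : ∀ z ∈ Z, t * z = z * t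
  nc : ∃ r ∈ R, t * r ≠ r * t

namespace Inv

variable {R Z : Subgroup X} {t : X} (h : ES R Z) (ht : Inv R Z t)
include h ht

theorem inv_eq : t⁻¹ = t := inv_eq_of_mul_eq_one_left ht.sq

theorem conj_conj (r : X) : t * (t * r * t⁻¹) * t⁻¹ = r := by
  have h1 : t * (t * r * t⁻¹) * t⁻¹ = (t * t) * r * (t * t)⁻¹ := by group
  rw [h1, ht.sq]; group

theorem conj_z {z : X} (hz : z ∈ Z) : t * z * t⁻¹ = z := by
  rw [ht.cent z hz]; group

/-- an element of `R` centralized by the involution is in `Z` -/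
theorem mem_of_comm {v : X} (hv : v ∈ R) (hvt : t * v = v * t) : v ∈ Z := by
  by_contra hvZ
  obtain ⟨r0, hr0, hne⟩ := ht.nc
  apply hne
  -- every element of R is centralized
  have hfv : t * v * t⁻¹ = v := by rw [hvt]; group
  have key : ∀ w ∈ R, t * w * t⁻¹ = w := by
    intro w hw
    have hfw := ht.norm w hw
    have h1 : cm v (t * w * t⁻¹) = cm v w := by
      have := cm_conj t v w
      rw [hfv] at this
      rw [← this, Inv.conj_z h ht (h.cm_mem v hv w hw)]
    have ha : t * w * t⁻¹ * w⁻¹ ∈ R := R.mul_mem hfw (R.inv_mem hw)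
    have h2 : cm v (t * w * t⁻¹ * w⁻¹) = 1 := by
      rw [h.cm_mul_right hv hfw (R.inv_mem hw), h1, h.cm_inv_right hv hw, mul_inv_cancel]
    have h3 : (t * w * t⁻¹ * w⁻¹) * v = v * (t * w * t⁻¹ * w⁻¹) :=
      ((cm_eq_one_iff _ _).mp h2).symm
    obtain ⟨k, hk, z, hz, hkz⟩ := h.centralizer_eq hv hvZ ha h3
    have hfw' : t * w * t⁻¹ = v ^ k * z * w := by
      rw [← hkz]; group
    -- apply the conjugation again
    have h4 : t * (v ^ k * z * w) * t⁻¹ = v ^ k * z * (t * w * t⁻¹) := by
      have e1 : t * (v ^ k * z * w) * t⁻¹ = (t * v * t⁻¹) ^ k * (t * z * t⁻¹) * (t * w * t⁻¹) := by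
        rw [conj_pow]; group
      rw [e1, hfv, Inv.conj_z h ht hz]
    have h5 : w = v ^ k * z * (v ^ k * z * w) := by
      have := Inv.conj_conj h ht w
      rw [hfw', h4, hfw'] at this
      exact this.symm
    have h6 : v ^ k * z * (v ^ k * z) = 1 := by
      have : v ^ k * z * (v ^ k * z) * w = 1 * w := by
        rw [one_mul]; conv_rhs => rw [h5]
        group
      exact mul_right_cancel this
    have hzv : z * v ^ k = v ^ k * z := h.central z hz _ (R.pow_mem hv k)
    have h7 : v ^ (2 * k) * (z * z) = 1 := by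
      rw [← h6, two_mul, pow_add]
      calc v ^ k * v ^ k * (z * z) = v ^ k * (v ^ k * z) * z := by group
        _ = v ^ k * (z * v ^ k) * z := by rw [hzv]
        _ = v ^ k * z * (v ^ k * z) := by group
    have h8 : v ^ (2 * k) ∈ Z := by
      have : v ^ (2 * k) = (z * z)⁻¹ := eq_inv_of_mul_eq_one_left h7
      rw [this]
      exact Z.inv_mem (Z.mul_mem hz hz)
    have hk0 : k = 0 := by
      interval_cases k
      · rfl
      · exact absurd (h.pow_not_mem hv hvZ (k := 2) (by norm_num) h8) (by norm_num)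
      · exfalso
        apply hvZ
        have : v ^ (2 * 2) = v := by
          calc v ^ (2 * 2) = v ^ 3 * v := by rw [← pow_succ]
            _ = v := by rw [h.exp v hv, one_mul]
        rw [← this]; exact h8
    subst hk0
    rw [mul_zero, pow_zero, one_mul] at h7
    have hz1 : z = 1 := h.eq_one_of_sq hz h7
    rw [hfw', hz1, pow_zero]; group
  have := key r0 hr0
  calc t * r0 = t * r0 * t⁻¹ * t := by group
    _ = r0 * t := by rw [this]

/-- the involution inverts `R` modulo `Z` -/
theorem mul_conj_mem {r : X} (hr : r ∈ R) : r * (t * r * t⁻¹) ∈ Z := by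
  have hfr := ht.norm r hr
  apply Inv.mem_of_comm h ht (R.mul_mem hr hfr)
  -- the element u = r f(r) is fixed
  have hc : cm (t * r * t⁻¹) r ∈ Z := h.cm_mem _ hfr r hr
  have h1 : t * (r * (t * r * t⁻¹)) * t⁻¹ = cm (t * r * t⁻¹) r * (r * (t * r * t⁻¹)) := by
    have : t * (r * (t * r * t⁻¹)) * t⁻¹ = (t * r * t⁻¹) * (t * (t * r * t⁻¹) * t⁻¹) := by group
    rw [this, Inv.conj_conj h ht r]
    exact mul_eq_cm_mul _ _
  have h2 : t * (t * (r * (t * r * t⁻¹)) * t⁻¹) * t⁻¹ =
      cm (t * r * t⁻¹) r * (cm (t * r * t⁻¹) r * (r * (t * r * t⁻¹))) := by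
    rw [h1]
    have : t * (cm (t * r * t⁻¹) r * (r * (t * r * t⁻¹))) * t⁻¹ =
        (t * cm (t * r * t⁻¹) r * t⁻¹) * (t * (r * (t * r * t⁻¹)) * t⁻¹) := by group
    rw [this, Inv.conj_z h ht hc, h1]
  rw [Inv.conj_conj h ht] at h2
  have h3 : cm (t * r * t⁻¹) r * cm (t * r * t⁻¹) r = 1 := by
    have : cm (t * r * t⁻¹) r * cm (t * r * t⁻¹) r * (r * (t * r * t⁻¹)) = 1 * (r * (t * r * t⁻¹)) := by
      rw [one_mul, mul_assoc, ← h2]
    exact mul_right_cancel this
  have h4 : cm (t * r * t⁻¹) r = 1 := h.eq_one_of_sq hc h3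
  rw [h4, one_mul] at h1
  calc t * (r * (t * r * t⁻¹)) = t * (r * (t * r * t⁻¹)) * t⁻¹ * t := by group
    _ = r * (t * r * t⁻¹) * t := by rw [h1]

end Inv

end Cfsg.Agent.Lib.Helper6.X648
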