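import Mathlib
import Cfsg.Agent.Lib.Helper6.X648.A2

/-!
# The elements of the extraspecial group inverted by the involution
-/

set_option autoImplicit false

namespace Cfsg.Agent.Lib.Helper6.X648

variable {X : Type*} [Group X]

/-- the inverted elements -/
def IsInvd (R : Subgroup X) (t r : X) : Prop := r ∈ R ∧ t * r * t⁻¹ = r⁻¹

namespace Inv

variable {R Z : Subgroup X} {t : X} (h : ES R Z) (ht : Inv R Z t)
include h ht

theorem invd_one : IsInvd R t 1 := ⟨R.one_mem, by group⟩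

theorem invd_inv {a : X} (ha : IsInvd R t a) : IsInvd R t a⁻¹ :=
  ⟨R.inv_mem ha.1, by
    have : t * a⁻¹ * t⁻¹ = (t * a * t⁻¹)⁻¹ := by group
    rw [this, ha.2]⟩

/-- an inverted element of `Z` is trivial -/
theorem invd_eq_one {a : X} (ha : IsInvd R t a) (haZ : a ∈ Z) : a = 1 := by
  have h1 := Inv.conj_z h ht haZ
  rw [ha.2] at h1
  apply h.eq_one_of_sq haZ
  calc a * a = a⁻¹ * a := by rw [h1]
    _ = 1 := inv_mul_cancel a

/-- every coset of `Z` in `R` contains an inverted element -/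
theorem exists_invd {r : X} (hr : r ∈ R) : ∃ z ∈ Z, IsInvd R t (r * z) := by
  have hu := Inv.mul_conj_mem h ht hr
  generalize hu_def : r * (t * r * t⁻¹) = u at hu
  have hf : t * r * t⁻¹ = r⁻¹ * u := by rw [← hu_def]; group
  refine ⟨u, hu, R.mul_mem hr (h.le hu), ?_⟩
  have e1 : t * (r * u) * t⁻¹ = (t * r * t⁻¹) * (t * u * t⁻¹) := by group
  rw [e1, Inv.conj_z h ht hu, hf]
  have hu3 : u * u * u = 1 := by
    have := h.z_pow_three hu
    rwa [pow_succ, pow_two] at this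
  have e3 : u⁻¹ = u * u := inv_eq_of_mul_eq_one_left hu3
  have huu : (u * u) * r⁻¹ = r⁻¹ * (u * u) := h.central _ (Z.mul_mem hu hu) _ (R.inv_mem hr)
  calc r⁻¹ * u * u = r⁻¹ * (u * u) := by group
    _ = (u * u) * r⁻¹ := huu.symm
    _ = u⁻¹ * r⁻¹ := by rw [e3]
    _ = (r * u)⁻¹ := by group

/-- the inverted element of a coset is unique -/
theorem invd_unique {a b : X} (ha : IsInvd R t a) (hb : IsInvd R t b) (hab : a⁻¹ * b ∈ Z) :
    a = b := by
  set z := a⁻¹ * b with hz_def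
  have hb' : b = a * z := by rw [hz_def]; group
  have h2 := hb.2
  rw [hb'] at h2
  have e1 : t * (a * z) * t⁻¹ = (t * a * t⁻¹) * (t * z * t⁻¹) := by group
  rw [e1, ha.2, Inv.conj_z h ht hab] at h2
  have e2 : (a * z)⁻¹ = z⁻¹ * a⁻¹ := by group
  rw [e2, h.central z⁻¹ (Z.inv_mem hab) a⁻¹ (R.inv_mem ha.1)] at h2
  have h3 : z = z⁻¹ := mul_left_cancel h2
  have h4 : z * z = 1 := by
    calc z * z = z * z⁻¹ := by rw [← h3]
      _ = 1 := mul_inv_cancel z
  have h5 := h.eq_one_of_sq hab h4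
  rw [hb', h5, mul_one]

/-- the inverted element in the coset of a product of inverted elements -/
theorem invd_mul {a b : X} (ha : IsInvd R t a) (hb : IsInvd R t b) :
    IsInvd R t (a * b * cm a b) := by
  have hc := h.cm_mem a ha.1 b hb.1
  refine ⟨R.mul_mem (R.mul_mem ha.1 hb.1) (h.le hc), ?_⟩
  have e1 : t * (a * b * cm a b) * t⁻¹ = (t * a * t⁻¹) * (t * b * t⁻¹) * (t * cm a b * t⁻¹) := by
    group
  rw [e1, ha.2, hb.2, Inv.conj_z h ht hc]
  -- a⁻¹ b⁻¹ c = (a b c)⁻¹ = c⁻¹ b⁻¹ a⁻¹ with c = cm a b central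
  have hc3 : cm a b * cm a b * cm a b = 1 := by
    have := h.z_pow_three hc
    rwa [pow_succ, pow_two] at this
  have hca : cm a b * a⁻¹ = a⁻¹ * cm a b := h.central _ hc _ (R.inv_mem ha.1)
  have hcb : cm a b * b⁻¹ = b⁻¹ * cm a b := h.central _ hc _ (R.inv_mem hb.1)
  have e2 : (a * b * cm a b)⁻¹ = (cm a b)⁻¹ * b⁻¹ * a⁻¹ := by group
  have e3 : (cm a b)⁻¹ = cm a b * cm a b := inv_eq_of_mul_eq_one_left hc3
  have e4 : a⁻¹ * b⁻¹ = cm a b * (b⁻¹ * a⁻¹) := by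
    have h5 : cm a⁻¹ b⁻¹ = cm a b := by
      rw [h.cm_inv_left ha.1 (R.inv_mem hb.1), h.cm_inv_right ha.1 hb.1, inv_inv]
    have h6 := mul_eq_cm_mul a⁻¹ b⁻¹
    rwa [h5] at h6
  have hcba : cm a b * (b⁻¹ * a⁻¹) = (b⁻¹ * a⁻¹) * cm a b :=
    h.central _ hc _ (R.mul_mem (R.inv_mem hb.1) (R.inv_mem ha.1))
  rw [e2, e3, e4]
  calc cm a b * (b⁻¹ * a⁻¹) * cm a b = cm a b * ((b⁻¹ * a⁻¹) * cm a b) := by group
    _ = cm a b * (cm a b * (b⁻¹ * a⁻¹)) := by rw [hcba]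
    _ = cm a b * cm a b * b⁻¹ * a⁻¹ := by group

end Inv

end Cfsg.Agent.Lib.Helper6.X648
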