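import Mathlib

/-!
# Facts about `SL(2,3)` obtained by kernel evaluation
-/

set_option autoImplicit false
set_option maxRecDepth 100000

namespace Cfsg.Agent.Lib.Helper6.X648

/-- the group `SL(2,3)` -/
abbrev S23 : Type := Matrix.SpecialLinearGroup (Fin 2) (ZMod 3)

/-- the central involution -/
def m1 : S23 := ⟨!![2, 0; 0, 2], by decide⟩

theorem card_S23 : Nat.card S23 = 24 := by
  rw [Nat.card_eq_fintype_card]; decide +kernel

theorem m1_sq : m1 * m1 = 1 := by decide +kernel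

theorem m1_ne : m1 ≠ 1 := by decide +kernel

theorem m1_central : ∀ g : S23, g * m1 = m1 * g := by decide +kernel

theorem pow8 : ∀ g : S23, g ^ 8 = 1 → g ^ 4 = 1 := by decide +kernel

theorem pow4 : ∀ g : S23, g ^ 4 = 1 → g ≠ 1 → g = m1 ∨ g * g = m1 := by decide +kernel

theorem card_pow4 : Fintype.card {g : S23 // g ^ 4 = 1} = 8 := by decide +kernel

theorem two_squares : ∀ g : S23, ∃ a b : S23, g = a * a * (b * b) := by decide +kernel

theorem pow_cases : ∀ g : S23, g ^ 3 = 1 ∨ g = m1 ∨ g * g = m1 ∨ g * g * g = m1 := by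
  decide +kernel

theorem cube_pair : ∀ u v : S23, u ^ 3 = 1 → v ^ 3 = 1 → u ≠ 1 → v ≠ 1 → (u * v) ^ 3 = 1 →
    (u * v⁻¹) ^ 3 = 1 → v = u ∨ v = u⁻¹ := by decide +kernel

theorem closure_cube : ∀ u : S23, u ≠ 1 → u ^ 3 = 1 →
    ∃ g : S23, (g * u * g⁻¹ * u⁻¹) * (g * u * g⁻¹ * u⁻¹) = m1 := by decide +kernel

theorem gen24 : ∀ a u g : S23, a * a = m1 → u ≠ 1 → u ^ 3 = 1 →
    ∃ α : Fin 4, ∃ β : Fin 2, ∃ γ : Fin 3, g = a ^ α.val * (u⁻¹ * a * u) ^ β.val * u ^ γ.val := by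
  decide +kernel

end Cfsg.Agent.Lib.Helper6.X648
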