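import Mathlib
import Cfsg.Agent.Lib.Helper6.X648.A3
import Cfsg.Agent.Lib.Helper6.X648.A4

/-!
# Groups of shape `3^{1+2}.SL(2,3)` without normal 2-subgroups: first steps
-/

set_option autoImplicit false

namespace Cfsg.Agent.Lib.Helper6.X648

variable {X : Type*} [Group X]

/-- the setting -/
structure Setting (R Z : Subgroup X) (π : X →* S23) : Prop where
  es : ES R Z
  nR : ∀ g : X, ∀ r ∈ R, g * r * g⁻¹ ∈ R
  nZ : ∀ g : X, ∀ z ∈ Z, g * z * g⁻¹ ∈ Z
  surj : Function.Surjective π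
  ker : ∀ g : X, π g = 1 ↔ g ∈ R
  o2 : ∀ t : X, t * t = 1 → (∀ g : X, g * t * g⁻¹ = t) → t = 1
  exE : ∃ E : Subgroup X, (∀ a ∈ E, ∀ b ∈ E, a * b = b * a) ∧ (∀ a ∈ E, a ^ 3 = 1) ∧
    Nat.card E = 27

namespace Setting

variable {R Z : Subgroup X} {π : X →* S23} (S : Setting R Z π)
include S

theorem mem_R_of_map_eq {a b : X} (hab : π a = π b) : a⁻¹ * b ∈ R := by
  rw [← S.ker, map_mul, map_inv, hab, inv_mul_cancel]

/-- conjugation by a square fixes `Z` pointwise -/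
theorem sq_conj {g z : X} (hz : z ∈ Z) : (g * g) * z * (g * g)⁻¹ = z := by
  by_cases hz1 : z = 1
  · rw [hz1]; group
  have hc := S.nZ g z hz
  rcases S.es.z_eq_pow hz hz1 hc with h1 | h1 | h1
  · exfalso
    apply hz1
    have : z = g⁻¹ * (g * z * g⁻¹) * g := by group
    rw [this, h1]; group
  · calc (g * g) * z * (g * g)⁻¹ = g * (g * z * g⁻¹) * g⁻¹ := by group
      _ = z := by rw [h1, h1]
  · have h3 := S.es.z_pow_three hz
    calc (g * g) * z * (g * g)⁻¹ = g * (g * z * g⁻¹) * g⁻¹ := by group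
      _ = g * z ^ 2 * g⁻¹ := by rw [h1]
      _ = (g * z * g⁻¹) ^ 2 := by rw [conj_pow]
      _ = (z ^ 2) ^ 2 := by rw [h1]
      _ = z ^ 3 * z := by rw [← pow_mul, pow_succ]
      _ = z := by rw [h3, one_mul]

/-- `Z` is central -/
theorem z_central {z : X} (hz : z ∈ Z) (g : X) : g * z = z * g := by
  obtain ⟨a, b, hab⟩ := two_squares (π g)
  obtain ⟨ga, rfl⟩ := S.surj a
  obtain ⟨gb, rfl⟩ := S.surj b
  have hr : (ga * ga * (gb * gb))⁻¹ * g ∈ R := by
    apply S.mem_R_of_map_eq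
    rw [hab, map_mul, map_mul, map_mul]
  set r := (ga * ga * (gb * gb))⁻¹ * g with hr_def
  have hg : g = ga * ga * (gb * gb) * r := by rw [hr_def]; group
  have h1 : r * z * r⁻¹ = z := by
    rw [← S.es.central z hz r hr]; group
  have h2 : g * z * g⁻¹ = z := by
    rw [hg]
    calc ga * ga * (gb * gb) * r * z * (ga * ga * (gb * gb) * r)⁻¹
        = (ga * ga) * ((gb * gb) * (r * z * r⁻¹) * (gb * gb)⁻¹) * (ga * ga)⁻¹ := by group
      _ = z := by rw [h1, S.sq_conj hz, S.sq_conj hz]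
  calc g * z = g * z * g⁻¹ * g := by group
    _ = z * g := by rw [h2]

end Setting

end Cfsg.Agent.Lib.Helper6.X648
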