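import Mathlib
import Cfsg.Agent.Lib.Helper6.X648.A5

/-!
# Groups of shape `3^{1+2}.SL(2,3)`: the order, a Sylow 2-subgroup and its involution
-/

set_option autoImplicit false

namespace Cfsg.Agent.Lib.Helper6.X648

variable {X : Type*} [Group X]

theorem factorization_648 : (648 : ℕ).factorization 2 = 3 := by
  have h1 : (648:ℕ) = 2^3 * 81 := by norm_num
  have h2 : (Nat.factorization 81) 2 = 0 :=
    Nat.factorization_eq_zero_of_not_dvd (by norm_num : ¬ (2 ∣ 81))
  have h3 : (Nat.factorization (2^3)) 2 = 3 := by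
    rw [Nat.factorization_pow, Finsupp.smul_apply, Nat.Prime.factorization_self Nat.prime_two]
    rfl
  rw [h1, Nat.factorization_mul (by norm_num) (by norm_num), Finsupp.add_apply, h2, h3]

/-- an element of order 4 of `SL(2,3)` -/
def i0 : S23 := ⟨!![0, 2; 1, 0], by decide⟩

theorem i0_sq : i0 * i0 = m1 := by decide +kernel

theorem i0_pow : i0 ^ 4 = 1 := by decide +kernel

theorem m1_pow : m1 ^ 4 = 1 := by decide +kernel

namespace Setting

variable {R Z : Subgroup X} {π : X →* S23} (S : Setting R Z π)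
include S

theorem ker_eq : π.ker = R := by
  ext g
  rw [MonoidHom.mem_ker]
  exact S.ker g

theorem card_X [Finite X] : Nat.card X = 648 := by
  have h1 := Subgroup.card_eq_card_quotient_mul_card_subgroup π.ker
  have h2 : Nat.card (X ⧸ π.ker) = 24 := by
    rw [Nat.card_congr (QuotientGroup.quotientKerEquivOfSurjective π S.surj).toEquiv, card_S23]
  rw [h1, h2, S.ker_eq, S.es.cardR]

/-- the data of a Sylow 2-subgroup -/
theorem exists_T [Finite X] : ∃ (T : Subgroup X) (t i : X), t ∈ T ∧ i ∈ T ∧ π t = m1 ∧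
    i * i = t ∧ t * t = 1 ∧ t ≠ 1 ∧ (∀ q ∈ T, q ≠ 1 → q = t ∨ q * q = t) ∧
    (∀ q ∈ T, q ^ 8 = 1) ∧ (∀ g : S23, g ^ 4 = 1 → ∃ q ∈ T, π q = g) ∧
    (∀ q ∈ T, π q = 1 → q = 1) := by
  classical
  haveI : Fact (Nat.Prime 2) := ⟨Nat.prime_two⟩
  let P : Sylow 2 X := default
  obtain ⟨T, hT⟩ : ∃ T : Subgroup X, T = (P : Subgroup X) := ⟨_, rfl⟩
  have hcard : Nat.card T = 8 := by
    rw [hT, Sylow.card_eq_multiplicity, S.card_X, factorization_648]; norm_num
  have h8 : ∀ q ∈ T, q ^ 8 = 1 := by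
    intro q hq
    have := pow_card_eq_one' (G := ↥T) (x := ⟨q, hq⟩)
    rw [hcard] at this
    exact congrArg Subtype.val this
  have hinj : ∀ q ∈ T, π q = 1 → q = 1 := by
    intro q hq hπ
    have hR := (S.ker q).mp hπ
    have h3 := S.es.exp q hR
    have h8' := h8 q hq
    calc q = (q ^ 3) ^ 3 * (q ^ 8)⁻¹ := by rw [← pow_mul]; group
      _ = 1 := by rw [h3, h8']; group
  have hinj2 : ∀ q1 ∈ T, ∀ q2 ∈ T, π q1 = π q2 → q1 = q2 := by
    intro q1 h1 q2 h2 h12
    have : q1⁻¹ * q2 = 1 := by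
      apply hinj _ (T.mul_mem (T.inv_mem h1) h2)
      rw [map_mul, map_inv, h12, inv_mul_cancel]
    calc q1 = q1 * (q1⁻¹ * q2) := by rw [this, mul_one]
      _ = q2 := by group
  let φ : ↥T → {g : S23 // g ^ 4 = 1} := fun q =>
    ⟨π q.1, pow8 _ (by rw [← map_pow, h8 q.1 q.2, map_one])⟩
  have hφinj : Function.Injective φ := by
    intro q1 q2 h12
    exact Subtype.ext (hinj2 _ q1.2 _ q2.2 (congrArg Subtype.val h12))
  have hφbij : Function.Bijective φ := by
    rw [Nat.bijective_iff_injective_and_card]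
    refine ⟨hφinj, ?_⟩
    rw [hcard, Nat.card_eq_fintype_card, card_pow4]
  have hsurj : ∀ g : S23, g ^ 4 = 1 → ∃ q ∈ T, π q = g := by
    intro g hg
    obtain ⟨q, hq⟩ := hφbij.2 ⟨g, hg⟩
    exact ⟨q.1, q.2, congrArg Subtype.val hq⟩
  obtain ⟨t, htT, htπ⟩ := hsurj m1 m1_pow
  obtain ⟨i, hiT, hiπ⟩ := hsurj i0 i0_pow
  have htt : t * t = 1 := by
    apply hinj _ (T.mul_mem htT htT)
    rw [map_mul, htπ, m1_sq]
  have ht1 : t ≠ 1 := by
    intro h
    rw [h, map_one] at htπ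
    exact m1_ne htπ.symm
  have hii : i * i = t := by
    apply hinj2 _ (T.mul_mem hiT hiT) _ htT
    rw [map_mul, hiπ, i0_sq, htπ]
  refine ⟨T, t, i, htT, hiT, htπ, hii, htt, ht1, ?_, h8, hsurj, hinj⟩
  intro q hq hq1
  have hπq : π q ≠ 1 := fun h => hq1 (hinj q hq h)
  have hπ4 : π q ^ 4 = 1 := pow8 _ (by rw [← map_pow, h8 q hq, map_one])
  rcases pow4 _ hπ4 hπq with h | h
  · left
    apply hinj2 _ hq _ htT
    rw [h, htπ]
  · right
    apply hinj2 _ (T.mul_mem hq hq) _ htT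
    rw [map_mul, h, htπ]

end Setting

end Cfsg.Agent.Lib.Helper6.X648
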