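import Mathlib
import Cfsg.Agent.Lib.Helper6.X648.A6

/-!
# Groups of shape `3^{1+2}.SL(2,3)`: the centralizer of the involution
-/

set_option autoImplicit false

namespace Cfsg.Agent.Lib.Helper6.X648

variable {X : Type*} [Group X]

/-- the data of a Sylow 2-subgroup -/
structure TData (π : X →* S23) (T : Subgroup X) (t i : X) : Prop where
  tT : t ∈ T
  iT : i ∈ T
  πt : π t = m1
  ii : i * i = t
  tt : t * t = 1
  t1 : t ≠ 1
  cases : ∀ q ∈ T, q ≠ 1 → q = t ∨ q * q = t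
  pow8 : ∀ q ∈ T, q ^ 8 = 1
  surj : ∀ g : S23, g ^ 4 = 1 → ∃ q ∈ T, π q = g
  inj : ∀ q ∈ T, π q = 1 → q = 1

theorem Setting.exists_TData [Finite X] {R Z : Subgroup X} {π : X →* S23} (S : Setting R Z π) :
    ∃ (T : Subgroup X) (t i : X), TData π T t i := by
  obtain ⟨T, t, i, h1, h2, h3, h4, h5, h6, h7, h8, h9, h10⟩ := S.exists_T
  exact ⟨T, t, i, ⟨h1, h2, h3, h4, h5, h6, h7, h8, h9, h10⟩⟩

namespace TData

variable {R Z : Subgroup X} {π : X →* S23} {T : Subgroup X} {t i : X}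
  (S : Setting R Z π) (D : TData π T t i)
include S D

theorem t_inv : t⁻¹ = t := inv_eq_of_mul_eq_one_left D.tt

/-- a conjugate of the involution is the involution times an element of `R` -/
theorem conj_t (g : X) : t⁻¹ * (g * t * g⁻¹) ∈ R := by
  apply S.mem_R_of_map_eq
  rw [map_mul, map_mul, map_inv, D.πt, m1_central (π g), mul_assoc, mul_inv_cancel, mul_one]

theorem inv : Inv R Z t where
  sq := D.tt
  norm := fun r hr => S.nR t r hr
  cent := fun z hz => S.z_central hz t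
  nc := by
    by_contra hcon
    push Not at hcon
    apply D.t1
    apply S.o2 t D.tt
    intro g
    have hr := D.conj_t S g
    set r := t⁻¹ * (g * t * g⁻¹) with hr_def
    have ha : g * t * g⁻¹ = t * r := by rw [hr_def]; group
    have haa : (g * t * g⁻¹) * (g * t * g⁻¹) = 1 := by
      calc (g * t * g⁻¹) * (g * t * g⁻¹) = g * (t * t) * g⁻¹ := by group
        _ = 1 := by rw [D.tt]; group
    rw [ha] at haa
    have hrr : r * r = 1 := by
      have h1 : t * r * (t * r) = (t * t) * (r * r) := by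
        calc t * r * (t * r) = t * (r * t) * r := by group
          _ = t * (t * r) * r := by rw [← hcon r hr]
          _ = (t * t) * (r * r) := by group
      rw [h1, D.tt, one_mul] at haa
      exact haa
    have hr1 : r = 1 := by
      have h3 := S.es.exp r hr
      calc r = r ^ 3 * (r * r)⁻¹ := by group
        _ = 1 := by rw [h3, hrr]; group
    rw [ha, hr1, mul_one]

/-- the decomposition of the group as the product of `R` and the centralizer of the involution -/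
theorem decomp (g : X) : ∃ r ∈ R, ∃ n : X, n * t = t * n ∧ g = r * n := by
  have hr := D.conj_t S g
  set r := t⁻¹ * (g * t * g⁻¹) with hr_def
  have ha : g * t * g⁻¹ = t * r := by rw [hr_def]; group
  have haa : (t * r) * (t * r) = 1 := by
    rw [← ha]
    calc (g * t * g⁻¹) * (g * t * g⁻¹) = g * (t * t) * g⁻¹ := by group
      _ = 1 := by rw [D.tt]; group
  have hinv : t * r * t⁻¹ = r⁻¹ := by
    rw [D.t_inv S]
    have : t * r * t * r = 1 := by rw [← haa]; group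
    exact eq_inv_of_mul_eq_one_left this
  have h3 := S.es.exp r hr
  have hrtr : r * t * r⁻¹ = t * r := by
    have e1 : r * t * r⁻¹ = t * (t⁻¹ * r * t) * r⁻¹ := by group
    have e2 : t⁻¹ * r * t = r⁻¹ := by
      have := hinv
      rw [D.t_inv S] at this ⊢
      exact this
    rw [e1, e2]
    have e3 : r⁻¹ * r⁻¹ = r := by
      calc r⁻¹ * r⁻¹ = r ^ 3 * (r⁻¹ * r⁻¹) := by rw [h3, one_mul]
        _ = r := by group
    rw [mul_assoc, e3]
  refine ⟨r, hr, r⁻¹ * g, ?_, by group⟩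
  have : g * t * g⁻¹ = r * t * r⁻¹ := by rw [ha, hrtr]
  calc r⁻¹ * g * t = r⁻¹ * (g * t * g⁻¹) * g := by group
    _ = r⁻¹ * (r * t * r⁻¹) * g := by rw [this]
    _ = t * (r⁻¹ * g) := by group

/-- the involution is central in the Sylow 2-subgroup -/
theorem T_comm {q : X} (hq : q ∈ T) : q * t = t * q := by
  have ha : q * t * q⁻¹ ∈ T := T.mul_mem (T.mul_mem hq D.tT) (T.inv_mem hq)
  have ha1 : q * t * q⁻¹ ≠ 1 := by
    intro h
    apply D.t1
    calc t = q⁻¹ * (q * t * q⁻¹) * q := by group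
      _ = 1 := by rw [h]; group
  have haa : (q * t * q⁻¹) * (q * t * q⁻¹) = 1 := by
    calc (q * t * q⁻¹) * (q * t * q⁻¹) = q * (t * t) * q⁻¹ := by group
      _ = 1 := by rw [D.tt]; group
  rcases D.cases _ ha ha1 with h | h
  · calc q * t = q * t * q⁻¹ * q := by group
      _ = t * q := by rw [h]
  · exact absurd (h.symm.trans haa) D.t1

/-- the centralizer of the involution normalizes the Sylow 2-subgroup -/
theorem T_norm {n : X} (hn : n * t = t * n) {q : X} (hq : q ∈ T) : n * q * n⁻¹ ∈ T := by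
  have hI := D.inv S
  have hπ8 : π (n * q * n⁻¹) ^ 8 = 1 := by
    rw [← map_pow, conj_pow, D.pow8 q hq, mul_one, mul_inv_cancel, map_one]
  have hπ4 : π (n * q * n⁻¹) ^ 4 = 1 := X648.pow8 _ hπ8
  obtain ⟨q', hq', hπ⟩ := D.surj _ hπ4
  have hz : q'⁻¹ * (n * q * n⁻¹) ∈ R := S.mem_R_of_map_eq hπ
  set z := q'⁻¹ * (n * q * n⁻¹) with hz_def
  have hqt := D.T_comm S hq
  have hq't := D.T_comm S hq'
  have hnt' : n⁻¹ * t = t * n⁻¹ := by
    calc n⁻¹ * t = n⁻¹ * (t * n) * n⁻¹ := by group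
      _ = n⁻¹ * (n * t) * n⁻¹ := by rw [hn]
      _ = t * n⁻¹ := by group
  have hq't' : q'⁻¹ * t = t * q'⁻¹ := by
    calc q'⁻¹ * t = q'⁻¹ * (t * q') * q'⁻¹ := by group
      _ = q'⁻¹ * (q' * t) * q'⁻¹ := by rw [hq't]
      _ = t * q'⁻¹ := by group
  have hzt : t * z = z * t := by
    rw [hz_def]
    calc t * (q'⁻¹ * (n * q * n⁻¹)) = (t * q'⁻¹) * (n * q * n⁻¹) := by group
      _ = (q'⁻¹ * t) * (n * q * n⁻¹) := by rw [hq't']
      _ = q'⁻¹ * ((t * n) * q * n⁻¹) := by group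
      _ = q'⁻¹ * ((n * t) * q * n⁻¹) := by rw [hn]
      _ = q'⁻¹ * (n * (t * q) * n⁻¹) := by group
      _ = q'⁻¹ * (n * (q * t) * n⁻¹) := by rw [hqt]
      _ = q'⁻¹ * (n * q * (t * n⁻¹)) := by group
      _ = q'⁻¹ * (n * q * (n⁻¹ * t)) := by rw [hnt']
      _ = q'⁻¹ * (n * q * n⁻¹) * t := by group
  have hzZ : z ∈ Z := Inv.mem_of_comm S.es hI hz hzt
  have ha : n * q * n⁻¹ = q' * z := by rw [hz_def]; group
  have h8 : (q' * z) ^ 8 = 1 := by
    rw [← ha, conj_pow, D.pow8 q hq]; group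
  have hcomm : Commute q' z := (S.z_central hzZ q')
  rw [hcomm.mul_pow, D.pow8 q' hq', one_mul] at h8
  have hz3 := S.es.z_pow_three hzZ
  have hzz : z * z = 1 := by
    have e8 : z ^ 8 = (z ^ 3) ^ 2 * (z * z) := by
      rw [← pow_mul, ← pow_two, ← pow_add]
    rw [e8, hz3, one_pow, one_mul] at h8
    exact h8
  have hz1 := S.es.eq_one_of_sq hzZ hzz
  rw [ha, hz1, mul_one]
  exact hq'

/-- the Sylow 2-subgroup acts freely on the inverted elements outside `Z` -/
theorem T_free {x : X} (hx : IsInvd R t x) (hxZ : x ∉ Z) {q1 q2 : X} (h1 : q1 ∈ T) (h2 : q2 ∈ T)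
    (h12 : q1⁻¹ * x * q1 = q2⁻¹ * x * q2) : q1 = q2 := by
  have hI := D.inv S
  have hq : q1 * q2⁻¹ ∈ T := T.mul_mem h1 (T.inv_mem h2)
  have hqx : (q1 * q2⁻¹) * x = x * (q1 * q2⁻¹) := by
    calc (q1 * q2⁻¹) * x = q1 * (q2⁻¹ * x * q2) * q2⁻¹ := by group
      _ = q1 * (q1⁻¹ * x * q1) * q2⁻¹ := by rw [h12]
      _ = x * (q1 * q2⁻¹) := by group
  by_cases hq1 : q1 * q2⁻¹ = 1
  · calc q1 = q1 * q2⁻¹ * q2 := by group
      _ = q2 := by rw [hq1, one_mul]
  · exfalso
    apply hxZ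
    apply Inv.mem_of_comm S.es hI hx.1
    rcases D.cases _ hq hq1 with h | h
    · rw [← h]; exact hqx
    · rw [← h]
      calc (q1 * q2⁻¹) * (q1 * q2⁻¹) * x = (q1 * q2⁻¹) * ((q1 * q2⁻¹) * x) := by group
        _ = (q1 * q2⁻¹) * (x * (q1 * q2⁻¹)) := by rw [hqx]
        _ = ((q1 * q2⁻¹) * x) * (q1 * q2⁻¹) := by group
        _ = x * (q1 * q2⁻¹) * (q1 * q2⁻¹) := by rw [hqx]
        _ = x * ((q1 * q2⁻¹) * (q1 * q2⁻¹)) := by group

end TData

end Cfsg.Agent.Lib.Helper6.X648
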