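import Mathlib
import Cfsg.Agent.Lib.Helper6.X648.A7

/-!
# Groups of shape `3^{1+2}.SL(2,3)` with an elementary abelian subgroup of order 27:
an element of order 3 outside `R` centralizing an inverted element and the involution
-/

set_option autoImplicit false

namespace Cfsg.Agent.Lib.Helper6.X648

variable {X : Type*} [Group X]

/-- conjugates of inverted elements by elements centralizing the involution -/
theorem IsInvd.conj {R : Subgroup X} {t a n : X} (ha : IsInvd R t a) (hn : n * t = t * n)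
    (hnR : ∀ r ∈ R, n * r * n⁻¹ ∈ R) : IsInvd R t (n * a * n⁻¹) := by
  refine ⟨hnR a ha.1, ?_⟩
  have hn' : t * n⁻¹ = n⁻¹ * t := by
    calc t * n⁻¹ = n⁻¹ * (n * t) * n⁻¹ := by group
      _ = n⁻¹ * (t * n) * n⁻¹ := by rw [hn]
      _ = n⁻¹ * t := by group
  calc t * (n * a * n⁻¹) * t⁻¹ = (t * n) * a * (t * n)⁻¹ := by group
    _ = (n * t) * a * (n * t)⁻¹ := by rw [hn]
    _ = n * (t * a * t⁻¹) * n⁻¹ := by group
    _ = n * a⁻¹ * n⁻¹ := by rw [ha.2]
    _ = (n * a * n⁻¹)⁻¹ := by group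

namespace TData

variable {R Z : Subgroup X} {π : X →* S23} {T : Subgroup X} {t i : X}
  (S : Setting R Z π) (D : TData π T t i)
include S D

theorem exists_xs [Finite X] : ∃ x s : X, IsInvd R t x ∧ x ∉ Z ∧ s * t = t * s ∧ s * x = x * s ∧
    s ^ 3 = 1 ∧ s ∉ R := by
  classical
  have hI := D.inv S
  obtain ⟨E, hEc, hE3, hEcard⟩ := S.exE
  -- an element of E outside R
  have h1 : ∃ e0 ∈ E, e0 ∉ R := by
    by_contra hcon
    push Not at hcon
    have hle : E ≤ R := hcon
    have heq : E = R := Subgroup.eq_of_le_of_card_ge hle (by rw [hEcard, S.es.cardR])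
    have hRZ : R ≤ Z := by
      intro r hr
      apply S.es.mem_of_central r hr
      intro r' hr'
      rw [← heq] at hr hr'
      exact hEc r hr r' hr'
    have := Subgroup.card_le_of_le hRZ
    rw [S.es.cardR, S.es.cardZ] at this
    omega
  -- an element of E in R outside Z
  have h2 : ∃ x0 ∈ E, x0 ∈ R ∧ x0 ∉ Z := by
    by_contra hcon
    push Not at hcon
    let f : E →* S23 := π.comp E.subtype
    have hq := Subgroup.card_eq_card_quotient_mul_card_subgroup f.ker
    rw [Nat.card_congr (QuotientGroup.quotientKerEquivRange f).toEquiv, hEcard] at hq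
    have hr24 : Nat.card f.range ∣ 24 := by
      have := Subgroup.card_subgroup_dvd_card f.range
      rwa [card_S23] at this
    have hr27 : Nat.card f.range ∣ 27 := ⟨_, hq⟩
    have hr3 : Nat.card f.range ∣ 3 := by
      have := Nat.dvd_gcd hr24 hr27
      have hg : Nat.gcd 24 27 = 3 := by norm_num
      rwa [hg] at this
    have hrle : Nat.card f.range ≤ 3 := Nat.le_of_dvd (by norm_num) hr3
    have hkle : Nat.card f.ker ≤ 3 := by
      haveI : Finite Z := Nat.finite_of_card_ne_zero (by rw [S.es.cardZ]; norm_num)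
      let ψ : f.ker → Z := fun e => ⟨e.1.1, hcon e.1.1 e.1.2 (by
        have := e.2
        rw [MonoidHom.mem_ker] at this
        exact (S.ker _).mp this)⟩
      have hψ : Function.Injective ψ := by
        intro a b hab
        have := congrArg Subtype.val hab
        exact Subtype.ext (Subtype.ext this)
      have := Nat.card_le_card_of_injective ψ hψ
      rwa [S.es.cardZ] at this
    have : Nat.card f.range * Nat.card f.ker ≤ 3 * 3 := Nat.mul_le_mul hrle hkle
    omega
  obtain ⟨e0, he0E, he0R⟩ := h1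
  obtain ⟨x0, hx0E, hx0R, hx0Z⟩ := h2
  obtain ⟨z', hz', hx⟩ := Inv.exists_invd S.es hI hx0R
  have hxZ : x0 * z' ∉ Z := by
    intro h
    apply hx0Z
    have : x0 = x0 * z' * z'⁻¹ := by group
    rw [this]
    exact Z.mul_mem h (Z.inv_mem hz')
  have he0x : e0 * (x0 * z') = (x0 * z') * e0 := by
    calc e0 * (x0 * z') = (e0 * x0) * z' := by group
      _ = (x0 * e0) * z' := by rw [hEc e0 he0E x0 hx0E]
      _ = x0 * (e0 * z') := by group
      _ = x0 * (z' * e0) := by rw [S.z_central hz' e0]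
      _ = (x0 * z') * e0 := by group
  obtain ⟨r, hr, n, hnt, he0⟩ := D.decomp S e0
  set x := x0 * z' with hx_def
  have hnx : n * x * n⁻¹ = x := by
    have h3 : IsInvd R t (n * x * n⁻¹) := hx.conj hnt (fun r hr => S.nR n r hr)
    symm
    apply Inv.invd_unique S.es hI hx h3
    have hn : n = r⁻¹ * e0 := by rw [he0]; group
    have : x⁻¹ * (n * x * n⁻¹) = cm x⁻¹ r⁻¹ := by
      rw [hn]
      unfold cm
      calc x⁻¹ * (r⁻¹ * e0 * x * (r⁻¹ * e0)⁻¹) = x⁻¹ * (r⁻¹ * (e0 * x) * e0⁻¹ * r) := by group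
        _ = x⁻¹ * (r⁻¹ * (x * e0) * e0⁻¹ * r) := by rw [he0x]
        _ = x⁻¹ * r⁻¹ * x⁻¹⁻¹ * r⁻¹⁻¹ := by group
    rw [this]
    exact S.es.cm_mem _ (R.inv_mem hx.1) _ (R.inv_mem hr)
  have hnx' : n * x = x * n := by
    calc n * x = n * x * n⁻¹ * n := by group
      _ = x * n := by rw [hnx]
  have hnR : n ∉ R := by
    intro h
    apply he0R
    rw [he0]
    exact R.mul_mem hr h
  have hrx : r * x = x * r := by
    have hr' : r = e0 * n⁻¹ := by rw [he0]; group
    have hn'x : n⁻¹ * x = x * n⁻¹ := by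
      calc n⁻¹ * x = n⁻¹ * (x * n) * n⁻¹ := by group
        _ = n⁻¹ * (n * x) * n⁻¹ := by rw [hnx']
        _ = x * n⁻¹ := by group
    rw [hr']
    calc e0 * n⁻¹ * x = e0 * (n⁻¹ * x) := by group
      _ = e0 * (x * n⁻¹) := by rw [hn'x]
      _ = (e0 * x) * n⁻¹ := by group
      _ = (x * e0) * n⁻¹ := by rw [he0x]
      _ = x * (e0 * n⁻¹) := by group
  obtain ⟨k, -, z'', hz'', hrk⟩ := S.es.centralizer_eq hx.1 hxZ hr hrx
  have hre0 : Commute r⁻¹ e0 := by
    apply Commute.inv_left
    rw [hrk]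
    show x ^ k * z'' * e0 = e0 * (x ^ k * z'')
    have hxe : Commute x e0 := he0x.symm
    have hze : Commute z'' e0 := (S.z_central hz'' e0).symm
    exact ((hxe.pow_left k).mul_left hze).eq
  have hn3 : n ^ 3 = 1 := by
    have hn : n = r⁻¹ * e0 := by rw [he0]; group
    rw [hn, hre0.mul_pow, inv_pow, S.es.exp r hr, hE3 e0 he0E, inv_one, one_mul]
  exact ⟨x, n, hx, hxZ, hnt, hnx', hn3, hnR⟩

end TData

end Cfsg.Agent.Lib.Helper6.X648
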