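import Mathlib
import Cfsg.Agent.Lib.Helper6.X648.A8

/-!
# Groups of shape `3^{1+2}.SL(2,3)`: the action of the element of order 3
-/

set_option autoImplicit false

namespace Cfsg.Agent.Lib.Helper6.X648

variable {X : Type*} [Group X]

/-- the data of the element of order 3 -/
structure SData (R Z : Subgroup X) (t x s : X) : Prop where
  hx : IsInvd R t x
  hxZ : x ∉ Z
  st : s * t = t * s
  sx : s * x = x * s
  s3 : s ^ 3 = 1
  sR : s ∉ R

theorem SData.inv {R Z : Subgroup X} {t x s : X} (E : SData R Z t x s) : SData R Z t x s⁻¹ where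
  hx := E.hx
  hxZ := E.hxZ
  st := by
    calc s⁻¹ * t = s⁻¹ * (t * s) * s⁻¹ := by group
      _ = s⁻¹ * (s * t) * s⁻¹ := by rw [E.st]
      _ = t * s⁻¹ := by group
  sx := by
    calc s⁻¹ * x = s⁻¹ * (x * s) * s⁻¹ := by group
      _ = s⁻¹ * (s * x) * s⁻¹ := by rw [E.sx]
      _ = x * s⁻¹ := by group
  s3 := by rw [inv_pow, E.s3, inv_one]
  sR := fun h => E.sR (by simpa using R.inv_mem h)

namespace TData

variable {R Z : Subgroup X} {π : X →* S23} {T : Subgroup X} {t i : X}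
  (S : Setting R Z π) (D : TData π T t i)
include S D

theorem i_comm : i * t = t * i := D.T_comm S D.iT

theorem i_inv_comm : i⁻¹ * t = t * i⁻¹ := by
  calc i⁻¹ * t = i⁻¹ * (t * i) * i⁻¹ := by group
    _ = i⁻¹ * (i * t) * i⁻¹ := by rw [D.i_comm S]
    _ = t * i⁻¹ := by group

/-- the conjugate of an inverted element outside `Z` by the element of order 4 -/
theorem y_invd {x : X} (hx : IsInvd R t x) : IsInvd R t (i⁻¹ * x * i) := by
  have := hx.conj (D.i_inv_comm S) (fun r hr => S.nR i⁻¹ r hr)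
  rwa [inv_inv] at this

theorem pow_invd {x : X} (hx : IsInvd R t x) (k : ℕ) : IsInvd R t (x ^ k) :=
  ⟨R.pow_mem hx.1 k, by rw [← conj_pow, hx.2, inv_pow]⟩

theorem cm_xy_ne {x : X} (hx : IsInvd R t x) (hxZ : x ∉ Z) : cm x (i⁻¹ * x * i) ≠ 1 := by
  have hI := D.inv S
  intro hcm
  have hy := D.y_invd S hx
  have hcomm : (i⁻¹ * x * i) * x = x * (i⁻¹ * x * i) := ((cm_eq_one_iff _ _).mp hcm).symm
  obtain ⟨k, hk, z', hz', hyk⟩ := S.es.centralizer_eq hx.1 hxZ hy.1 hcomm
  -- the inverted elements y and x ^ k are in the same coset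
  have hyk' : i⁻¹ * x * i = x ^ k := by
    symm
    apply Inv.invd_unique S.es hI (D.pow_invd S hx k) hy
    rw [hyk]
    have : (x ^ k)⁻¹ * (x ^ k * z') = z' := by group
    rw [this]; exact hz'
  have ht1 : (1 : X) ∈ T := T.one_mem
  interval_cases k
  · -- x = 1
    apply hxZ
    have : x = i * (i⁻¹ * x * i) * i⁻¹ := by group
    rw [this, hyk', pow_zero]
    have : i * 1 * i⁻¹ = (1 : X) := by group
    rw [this]; exact Z.one_mem
  · -- i = 1
    have : i = 1 := by
      apply D.T_free S hx hxZ D.iT ht1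
      rw [hyk', pow_one]; group
    apply D.t1
    rw [← D.ii, this, one_mul]
  · -- i = t
    have : i = t := by
      apply D.T_free S hx hxZ D.iT D.tT
      rw [hyk']
      have h3 := S.es.exp x hx.1
      have e1 : t⁻¹ * x * t = x⁻¹ := by
        have := hx.2
        rw [D.t_inv S] at this ⊢
        exact this
      rw [e1]
      calc x ^ 2 = x ^ 3 * x⁻¹ := by group
        _ = x⁻¹ := by rw [h3, one_mul]
    apply D.t1
    have h2 := D.ii
    rw [this, D.tt] at h2
    exact h2.symm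

/-- an element outside `R` does not centralize `R` -/
theorem not_central {x s : X} (E : SData R Z t x s) : ¬ ∀ r ∈ R, s * r = r * s := by
  intro hall
  have hu1 : π s ≠ 1 := fun h => E.sR ((S.ker s).mp h)
  have hu3 : π s ^ 3 = 1 := by rw [← map_pow, E.s3, map_one]
  obtain ⟨g0, hg0⟩ := closure_cube (π s) hu1 hu3
  obtain ⟨g, rfl⟩ := S.surj g0
  -- the commutator c
  have hs' : ∀ r ∈ R, s⁻¹ * r = r * s⁻¹ := by
    intro r hr
    calc s⁻¹ * r = s⁻¹ * (r * s) * s⁻¹ := by group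
      _ = s⁻¹ * (s * r) * s⁻¹ := by rw [hall r hr]
      _ = r * s⁻¹ := by group
  have hgs : ∀ r ∈ R, (g * s * g⁻¹) * r = r * (g * s * g⁻¹) := by
    intro r hr
    have h1 : g⁻¹ * r * g ∈ R := by
      have := S.nR g⁻¹ r hr
      rwa [inv_inv] at this
    calc (g * s * g⁻¹) * r = g * (s * (g⁻¹ * r * g)) * g⁻¹ := by group
      _ = g * ((g⁻¹ * r * g) * s) * g⁻¹ := by rw [hall _ h1]
      _ = r * (g * s * g⁻¹) := by group
  have hc : ∀ r ∈ R, (g * s * g⁻¹ * s⁻¹) * r = r * (g * s * g⁻¹ * s⁻¹) := by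
    intro r hr
    calc (g * s * g⁻¹ * s⁻¹) * r = (g * s * g⁻¹) * (s⁻¹ * r) := by group
      _ = (g * s * g⁻¹) * (r * s⁻¹) := by rw [hs' r hr]
      _ = ((g * s * g⁻¹) * r) * s⁻¹ := by group
      _ = (r * (g * s * g⁻¹)) * s⁻¹ := by rw [hgs r hr]
      _ = r * (g * s * g⁻¹ * s⁻¹) := by group
  set c := g * s * g⁻¹ * s⁻¹ with hc_def
  have hcc : (c * c) * x = x * (c * c) := by
    calc (c * c) * x = c * (c * x) := by group
      _ = c * (x * c) := by rw [hc x E.hx.1]
      _ = (c * x) * c := by group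
      _ = (x * c) * c := by rw [hc x E.hx.1]
      _ = x * (c * c) := by group
  have hπ : π t = π (c * c) := by
    rw [D.πt, ← hg0, hc_def]
    simp only [map_mul, map_inv]
  have hr' : t⁻¹ * (c * c) ∈ R := S.mem_R_of_map_eq hπ
  set r' := t⁻¹ * (c * c) with hr'_def
  have hcc' : c * c = t * r' := by rw [hr'_def]; group
  rw [hcc'] at hcc
  -- r' x r'⁻¹ = x⁻¹
  have e1 : t⁻¹ * x * t = x⁻¹ := by
    have := E.hx.2
    rw [D.t_inv S] at this ⊢
    exact this
  have h1 : r' * x * r'⁻¹ = x⁻¹ := by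
    calc r' * x * r'⁻¹ = t⁻¹ * ((t * r') * x) * r'⁻¹ := by group
      _ = t⁻¹ * (x * (t * r')) * r'⁻¹ := by rw [hcc]
      _ = t⁻¹ * x * t := by group
      _ = x⁻¹ := e1
  have h2 : cm r' x = x⁻¹ * x⁻¹ := by
    unfold cm
    rw [h1]
  have h3 : x ^ 2 ∈ Z := by
    have h4 : x⁻¹ * x⁻¹ ∈ Z := by rw [← h2]; exact S.es.cm_mem r' hr' x E.hx.1
    have : x ^ 2 = (x⁻¹ * x⁻¹)⁻¹ := by group
    rw [this]; exact Z.inv_mem h4
  exact absurd (S.es.pow_not_mem E.hx.1 E.hxZ (k := 2) (by norm_num) h3) (by norm_num)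

end TData

end Cfsg.Agent.Lib.Helper6.X648
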