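import Mathlib
import Cfsg.Agent.Lib.Helper6.X648.A9

/-!
# Groups of shape `3^{1+2}.SL(2,3)`: normalizing the element of order 3
-/

set_option autoImplicit false

namespace Cfsg.Agent.Lib.Helper6.X648

variable {X : Type*} [Group X]

namespace TData

variable {R Z : Subgroup X} {π : X →* S23} {T : Subgroup X} {t i : X}
  (S : Setting R Z π) (D : TData π T t i)
include S D

theorem s_conj_x {x s : X} (E : SData R Z t x s) : s⁻¹ * x * s = x := by
  rw [mul_assoc, ← E.sx]; group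

theorem w_invd {x s : X} (E : SData R Z t x s) : IsInvd R t (s⁻¹ * (i⁻¹ * x * i) * s) := by
  have := (D.y_invd S E.hx).conj E.inv.st (fun r hr => S.nR s⁻¹ r hr)
  rwa [inv_inv] at this

theorem cm_xw {x s : X} (E : SData R Z t x s) :
    cm x (s⁻¹ * (i⁻¹ * x * i) * s) = cm x (i⁻¹ * x * i) := by
  have h1 := cm_conj s⁻¹ x (i⁻¹ * x * i)
  rw [inv_inv, D.s_conj_x S E] at h1
  rw [← h1]
  have hz := S.es.cm_mem x E.hx.1 _ (D.y_invd S E.hx).1
  rw [S.z_central hz s⁻¹]; group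

/-- the conjugate of `y` by the element of order 3, up to `Z` -/
theorem w_form {x s : X} (E : SData R Z t x s) : ∃ k : ℕ, (k = 1 ∨ k = 2) ∧ ∃ z' ∈ Z,
    s⁻¹ * (i⁻¹ * x * i) * s = x ^ k * z' * (i⁻¹ * x * i) := by
  have hI := D.inv S
  have hy := D.y_invd S E.hx
  have hw := D.w_invd S E
  have hne := D.cm_xy_ne S E.hx E.hxZ
  set y := i⁻¹ * x * i with hy_def
  set w := s⁻¹ * y * s with hw_def
  have h1 : cm x (w * y⁻¹) = 1 := by
    rw [S.es.cm_mul_right E.hx.1 hw.1 (R.inv_mem hy.1), D.cm_xw S E,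
      S.es.cm_inv_right E.hx.1 hy.1, mul_inv_cancel]
  have h2 : (w * y⁻¹) * x = x * (w * y⁻¹) := ((cm_eq_one_iff _ _).mp h1).symm
  obtain ⟨k, hk, z', hz', hkz⟩ := S.es.centralizer_eq E.hx.1 E.hxZ
    (R.mul_mem hw.1 (R.inv_mem hy.1)) h2
  have hwk : w = x ^ k * z' * y := by rw [← hkz]; group
  refine ⟨k, ?_, z', hz', hwk⟩
  interval_cases k
  · exfalso
    -- w = y, so the element centralizes R
    have hwy : y = w := by
      apply Inv.invd_unique S.es hI hy hw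
      rw [hwk, pow_zero, one_mul]
      have : y⁻¹ * (z' * y) = z' := by
        rw [S.es.central z' hz' y hy.1]; group
      rw [this]; exact hz'
    have hsy : s * y = y * s := by
      calc s * y = s * w := by rw [← hwy]
        _ = y * s := by rw [hw_def]; group
    apply D.not_central S E
    intro r hr
    obtain ⟨a, b, -, -, z'', hz'', rfl⟩ := S.es.coords E.hx.1 hy.1 hne r hr
    have c1 : Commute s x := E.sx
    have c2 : Commute s y := hsy
    have c3 : Commute s z'' := S.z_central hz'' s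
    exact (((c1.pow_right a).mul_right (c2.pow_right b)).mul_right c3).eq
  · left; rfl
  · right; rfl

/-- the normalized element of order 3 -/
theorem exists_s {x s : X} (E : SData R Z t x s) : ∃ s' : X, SData R Z t x s' ∧
    s'⁻¹ * (i⁻¹ * x * i) * s' = x * (i⁻¹ * x * i) * cm x (i⁻¹ * x * i) := by
  have hI := D.inv S
  have hy := D.y_invd S E.hx
  -- the case k = 1
  have key : ∀ s' : X, SData R Z t x s' → ∀ z' ∈ Z,
      s'⁻¹ * (i⁻¹ * x * i) * s' = x * z' * (i⁻¹ * x * i) →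
      s'⁻¹ * (i⁻¹ * x * i) * s' = x * (i⁻¹ * x * i) * cm x (i⁻¹ * x * i) := by
    intro s' E' z' hz' hw
    have hw' := D.w_invd S E'
    symm
    apply Inv.invd_unique S.es hI (Inv.invd_mul S.es hI E.hx hy) hw'
    rw [hw]
    have hc := S.es.cm_mem x E.hx.1 _ hy.1
    have : (x * (i⁻¹ * x * i) * cm x (i⁻¹ * x * i))⁻¹ * (x * z' * (i⁻¹ * x * i)) =
        (cm x (i⁻¹ * x * i))⁻¹ * z' := by
      calc (x * (i⁻¹ * x * i) * cm x (i⁻¹ * x * i))⁻¹ * (x * z' * (i⁻¹ * x * i))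
          = (cm x (i⁻¹ * x * i))⁻¹ * ((i⁻¹ * x * i)⁻¹ * (z' * (i⁻¹ * x * i))) := by group
        _ = (cm x (i⁻¹ * x * i))⁻¹ * ((i⁻¹ * x * i)⁻¹ * ((i⁻¹ * x * i) * z')) := by
            rw [S.es.central z' hz' _ hy.1]
        _ = (cm x (i⁻¹ * x * i))⁻¹ * z' := by group
    rw [this]
    exact Z.mul_mem (Z.inv_mem hc) hz'
  obtain ⟨k, hk, z', hz', hw⟩ := D.w_form S E
  rcases hk with rfl | rfl
  · rw [pow_one] at hw
    exact ⟨s, E, key s E z' hz' hw⟩
  · refine ⟨s⁻¹, E.inv, key s⁻¹ E.inv z'⁻¹ (Z.inv_mem hz') ?_⟩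
    rw [inv_inv]
    -- from s⁻¹ y s = x² z' y
    have h3 := S.es.exp x E.hx.1
    have hsz : s * z' = z' * s := S.z_central hz' s
    have e1 : i⁻¹ * x * i = s * (x ^ 2 * z' * (i⁻¹ * x * i)) * s⁻¹ := by
      rw [← hw]; group
    have e2 : s * (x ^ 2 * z' * (i⁻¹ * x * i)) * s⁻¹ =
        x ^ 2 * z' * (s * (i⁻¹ * x * i) * s⁻¹) := by
      have c1 : Commute s x := E.sx
      have c2 : Commute s z' := hsz
      have c3 : s * (x ^ 2 * z') = (x ^ 2 * z') * s := ((c1.pow_right 2).mul_right c2).eq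
      calc s * (x ^ 2 * z' * (i⁻¹ * x * i)) * s⁻¹ = (s * (x ^ 2 * z')) * (i⁻¹ * x * i) * s⁻¹ := by
            group
        _ = ((x ^ 2 * z') * s) * (i⁻¹ * x * i) * s⁻¹ := by rw [c3]
        _ = x ^ 2 * z' * (s * (i⁻¹ * x * i) * s⁻¹) := by group
    rw [e2] at e1
    have e3 : s * (i⁻¹ * x * i) * s⁻¹ = (x ^ 2 * z')⁻¹ * (i⁻¹ * x * i) := by
      rw [eq_inv_mul_iff_mul_eq]; exact e1.symm
    rw [e3]
    have e4 : (x ^ 2 * z')⁻¹ = x * z'⁻¹ := by
      have hzx : z'⁻¹ * (x ^ 2)⁻¹ = (x ^ 2)⁻¹ * z'⁻¹ :=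
        S.es.central _ (Z.inv_mem hz') _ (R.inv_mem (R.pow_mem E.hx.1 2))
      have : (x ^ 2)⁻¹ = x := by
        calc (x ^ 2)⁻¹ = x ^ 3 * (x ^ 2)⁻¹ := by rw [h3, one_mul]
          _ = x := by group
      rw [mul_inv_rev, hzx, this]
    rw [e4]

end TData

end Cfsg.Agent.Lib.Helper6.X648
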