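import Mathlib
import Cfsg.Agent.Lib.Helper6.WP10
import Cfsg.Agent.Lib.Helper6.TCD.X648U.Idx

/-!
# A presentation of the group `3^{1+2}:SL(2,3)` of order 648

Generators `x` (of order 3), `i` (of order 4), `s` (of order 3); with `y = i⁻¹ x i`,
`j = s⁻¹ i s`, `z = x y x⁻¹ y⁻¹` the relations of `Rel`.  Any group of order 648 generated by
three elements with these relations is isomorphic to the group `P` presented by them.
-/

set_option autoImplicit false

namespace Cfsg.Agent.Lib.Helper6.X648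

open Cfsg.Agent.Lib.Helper6.TC Cfsg.Agent.Lib.Helper6.TCD

/-- the presented group -/
abbrev P : Type := WG 6 X648U.base

theorem card_P_le : Finite P ∧ Nat.card P ≤ 648 := wp_bottom X648U.idx

section rel
variable {Q : Type*} [Group Q]

/-- the relations -/
structure Rel (x i s : Q) : Prop where
  x3 : x * x * x = 1
  i4 : i * i * i * i = 1
  s3 : s * s * s = 1
  sx : s * x = x * s
  tx : i * i * x * i⁻¹ * i⁻¹ = x⁻¹
  zx : (x * (i⁻¹ * x * i) * x⁻¹ * (i⁻¹ * x * i)⁻¹) * x = x * (x * (i⁻¹ * x * i) * x⁻¹ * (i⁻¹ * x * i)⁻¹)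
  zi : (x * (i⁻¹ * x * i) * x⁻¹ * (i⁻¹ * x * i)⁻¹) * i = i * (x * (i⁻¹ * x * i) * x⁻¹ * (i⁻¹ * x * i)⁻¹)
  zs : (x * (i⁻¹ * x * i) * x⁻¹ * (i⁻¹ * x * i)⁻¹) * s = s * (x * (i⁻¹ * x * i) * x⁻¹ * (i⁻¹ * x * i)⁻¹)
  jj : (s⁻¹ * i * s) * (s⁻¹ * i * s) = i * i
  ys : s⁻¹ * (i⁻¹ * x * i) * s =
    x * (i⁻¹ * x * i) * (x * (i⁻¹ * x * i) * x⁻¹ * (i⁻¹ * x * i)⁻¹)
  js : s⁻¹ * (s⁻¹ * i * s) * s = (i * (s⁻¹ * i * s))⁻¹

/-- the elements of the columns -/
def colF (x i s : Q) : ℕ → Q := fun c =>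
  match c with
  | 0 => x
  | 1 => x⁻¹
  | 2 => i
  | 3 => i⁻¹
  | 4 => s
  | 5 => s⁻¹
  | _ => 1

theorem rel_list {x i s : Q} (h : Rel x i s) :
    ∀ b ∈ X648U.base, (b.map (colF x i s)).prod = 1 := by
  intro b hb
  simp only [X648U.base, List.mem_cons, List.not_mem_nil, or_false] at hb
  rcases hb with rfl | rfl | rfl | rfl | rfl | rfl | rfl | rfl | rfl | rfl | rfl | rfl | rfl | rfl
  · simp only [List.map, List.prod_cons, List.prod_nil, colF, mul_one]
    rw [← mul_assoc]; exact h.x3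
  · simp only [List.map, List.prod_cons, List.prod_nil, colF, mul_one]
    rw [← mul_assoc, ← mul_assoc]; exact h.i4
  · simp only [List.map, List.prod_cons, List.prod_nil, colF, mul_one]
    rw [← mul_assoc]; exact h.s3
  · simp only [List.map, List.prod_cons, List.prod_nil, colF, mul_one]
    rw [← mul_assoc, h.sx]; group
  · simp only [List.map, List.prod_cons, List.prod_nil, colF, mul_one]
    have := h.tx
    calc i * (i * (x * (i⁻¹ * (i⁻¹ * x)))) = (i * i * x * i⁻¹ * i⁻¹) * x := by group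
      _ = 1 := by rw [this]; group
  · simp only [List.map, List.prod_cons, List.prod_nil, colF, mul_one]
    have := h.zx
    calc _ = ((x * (i⁻¹ * x * i) * x⁻¹ * (i⁻¹ * x * i)⁻¹) * x) *
          (x * (i⁻¹ * x * i) * x⁻¹ * (i⁻¹ * x * i)⁻¹)⁻¹ * x⁻¹ := by group
      _ = 1 := by rw [this]; group
  · simp only [List.map, List.prod_cons, List.prod_nil, colF, mul_one]
    have := h.zi
    calc _ = ((x * (i⁻¹ * x * i) * x⁻¹ * (i⁻¹ * x * i)⁻¹) * i) *
          (x * (i⁻¹ * x * i) * x⁻¹ * (i⁻¹ * x * i)⁻¹)⁻¹ * i⁻¹ := by group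
      _ = 1 := by rw [this]; group
  · simp only [List.map, List.prod_cons, List.prod_nil, colF, mul_one]
    have := h.zs
    calc _ = ((x * (i⁻¹ * x * i) * x⁻¹ * (i⁻¹ * x * i)⁻¹) * s) *
          (x * (i⁻¹ * x * i) * x⁻¹ * (i⁻¹ * x * i)⁻¹)⁻¹ * s⁻¹ := by group
      _ = 1 := by rw [this]; group
  · simp only [List.map, List.prod_cons, List.prod_nil, colF, mul_one]
    have := h.jj
    calc _ = ((s⁻¹ * i * s) * (s⁻¹ * i * s)) * (i * i)⁻¹ := by group
      _ = 1 := by rw [this]; group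
  · simp only [List.map, List.prod_cons, List.prod_nil, colF, mul_one]
    have := h.ys
    calc _ = (s⁻¹ * (i⁻¹ * x * i) * s) *
          (x * (i⁻¹ * x * i) * (x * (i⁻¹ * x * i) * x⁻¹ * (i⁻¹ * x * i)⁻¹))⁻¹ := by group
      _ = 1 := by rw [this]; group
  · simp only [List.map, List.prod_cons, List.prod_nil, colF, mul_one]
    have := h.js
    calc _ = (s⁻¹ * (s⁻¹ * i * s) * s) * ((i * (s⁻¹ * i * s))⁻¹)⁻¹ := by group
      _ = 1 := by rw [this]; group
  · simp [colF]
  · simp [colF]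
  · simp [colF]

/-- the homomorphism from the presented group -/
noncomputable def toQ {x i s : Q} (h : Rel x i s) : P →* Q :=
  wgHom (colF x i s) X648U.hbl (rel_list h)

theorem toQ_surjective {x i s : Q} (h : Rel x i s)
    (hgen : Subgroup.closure ({x, i, s} : Set Q) = ⊤) : Function.Surjective (toQ h) := by
  rw [← MonoidHom.range_eq_top, eq_top_iff, ← hgen, Subgroup.closure_le]
  rintro g (rfl | rfl | rfl)
  · exact ⟨_, wgHom_of (colF g i s) X648U.hbl (rel_list h) (0 : Fin 6)⟩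
  · exact ⟨_, wgHom_of (colF x g s) X648U.hbl (rel_list h) (2 : Fin 6)⟩
  · exact ⟨_, wgHom_of (colF x i g) X648U.hbl (rel_list h) (4 : Fin 6)⟩

/-- a group of order 648 generated by three elements with the relations is the presented group -/
theorem iso_of_rel [Finite Q] {x i s : Q} (h : Rel x i s)
    (hgen : Subgroup.closure ({x, i, s} : Set Q) = ⊤) (hcard : Nat.card Q = 648) :
    Nonempty (P ≃* Q) := by
  haveI := card_P_le.1
  have hs := toQ_surjective h hgen
  have h1 : Nat.card Q ≤ Nat.card P := Nat.card_le_card_of_surjective _ hs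
  have h2 : Nat.card P = Nat.card Q := le_antisymm (by rw [hcard]; exact card_P_le.2) h1
  have hb : Function.Bijective (toQ h) :=
    (Nat.bijective_iff_surjective_and_card _).mpr ⟨hs, h2⟩
  exact ⟨MulEquiv.ofBijective (toQ h) hb⟩

end rel

end Cfsg.Agent.Lib.Helper6.X648
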