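import Mathlib
import Cfsg.Agent.Lib.Helper6.X648.A10
import Cfsg.Agent.Lib.Helper6.X648.Pres

/-!
# Groups of shape `3^{1+2}.SL(2,3)` with an elementary abelian subgroup of order 27 are
isomorphic to the presented group
-/

set_option autoImplicit false

namespace Cfsg.Agent.Lib.Helper6.X648

variable {X : Type*} [Group X]

namespace TData

variable {R Z : Subgroup X} {π : X →* S23} {T : Subgroup X} {t i : X}
  (S : Setting R Z π) (D : TData π T t i)
include S D

theorem j_mem {x s : X} (E : SData R Z t x s) : s⁻¹ * i * s ∈ T := by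
  have := D.T_norm S E.inv.st D.iT
  rwa [inv_inv] at this

theorem jj {x s : X} (E : SData R Z t x s) : (s⁻¹ * i * s) * (s⁻¹ * i * s) = t := by
  calc (s⁻¹ * i * s) * (s⁻¹ * i * s) = s⁻¹ * (i * i) * s := by group
    _ = s⁻¹ * t * s := by rw [D.ii]
    _ = t := by rw [mul_assoc, ← E.st]; group

/-- the relation between the conjugates of the element of order 4 -/
theorem js {x s : X} (E : SData R Z t x s)
    (hys : s⁻¹ * (i⁻¹ * x * i) * s = x * (i⁻¹ * x * i) * cm x (i⁻¹ * x * i)) :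
    s⁻¹ * (s⁻¹ * i * s) * s = (i * (s⁻¹ * i * s))⁻¹ := by
  have hj := D.j_mem S E
  have hy := D.y_invd S E.hx
  have hz := S.es.cm_mem x E.hx.1 _ hy.1
  have hsx := D.s_conj_x S E
  have h3 := S.es.exp x E.hx.1
  have hz3 := S.es.z_pow_three hz
  have e1 : t * x * t⁻¹ = x⁻¹ := E.hx.2
  have ey : t * (i⁻¹ * x * i) * t⁻¹ = (i⁻¹ * x * i)⁻¹ := hy.2
  set y := i⁻¹ * x * i with hy_def
  set z := cm x y with hz_def
  set j := s⁻¹ * i * s with hj_def
  have hjj : j * j = t := D.jj S E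
  -- j⁻¹ x j = x y z
  have hjx : j⁻¹ * x * j = x * y * z := by
    calc j⁻¹ * x * j = s⁻¹ * (i⁻¹ * (s * x * s⁻¹) * i) * s := by rw [hj_def]; group
      _ = s⁻¹ * (i⁻¹ * x * i) * s := by
          have : s * x * s⁻¹ = x := by rw [E.sx]; group
          rw [this]
      _ = x * y * z := hys
  have hsz : s⁻¹ * z * s = z := by
    rw [S.z_central hz s⁻¹]; group
  apply D.T_free S E.hx E.hxZ
  · have := D.T_norm S E.inv.st hj
    rwa [inv_inv] at this
  · exact T.inv_mem (T.mul_mem D.iT hj)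
  · -- the two conjugates of x
    have lhs : (s⁻¹ * j * s)⁻¹ * x * (s⁻¹ * j * s) = x * (x * y * z) * z := by
      calc (s⁻¹ * j * s)⁻¹ * x * (s⁻¹ * j * s) = s⁻¹ * (j⁻¹ * (s * x * s⁻¹) * j) * s := by group
        _ = s⁻¹ * (j⁻¹ * x * j) * s := by
            have : s * x * s⁻¹ = x := by rw [E.sx]; group
            rw [this]
        _ = s⁻¹ * (x * y * z) * s := by rw [hjx]
        _ = (s⁻¹ * x * s) * (s⁻¹ * y * s) * (s⁻¹ * z * s) := by group
        _ = x * (x * y * z) * z := by rw [hsx, hys, hsz]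
    have hjx' : j * x * j⁻¹ = (x * y * z)⁻¹ := by
      calc j * x * j⁻¹ = j⁻¹ * ((j * j) * x * (j * j)⁻¹) * j := by group
        _ = j⁻¹ * x⁻¹ * j := by rw [hjj, e1]
        _ = (j⁻¹ * x * j)⁻¹ := by group
        _ = (x * y * z)⁻¹ := by rw [hjx]
    have hix : i * x * i⁻¹ = y⁻¹ := by
      calc i * x * i⁻¹ = (i * i) * (i⁻¹ * x * i) * (i * i)⁻¹ := by group
        _ = y⁻¹ := by rw [D.ii]; exact ey
    have hiy : i * y * i⁻¹ = x := by rw [hy_def]; group
    have hiz : i * z * i⁻¹ = z := by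
      rw [S.z_central hz i]; group
    have rhs : ((i * j)⁻¹)⁻¹ * x * (i * j)⁻¹ = (y⁻¹ * x * z)⁻¹ := by
      calc ((i * j)⁻¹)⁻¹ * x * (i * j)⁻¹ = i * (j * x * j⁻¹) * i⁻¹ := by group
        _ = i * (x * y * z)⁻¹ * i⁻¹ := by rw [hjx']
        _ = ((i * x * i⁻¹) * (i * y * i⁻¹) * (i * z * i⁻¹))⁻¹ := by group
        _ = (y⁻¹ * x * z)⁻¹ := by rw [hix, hiy, hiz]
    rw [lhs, rhs]
    -- x x y z z = z⁻¹ x⁻¹ y
    have hzx : z * x = x * z := S.es.central z hz x E.hx.1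
    have hzy : z * y = y * z := S.es.central z hz y hy.1
    have exx : x * x = x⁻¹ := by
      apply eq_inv_of_mul_eq_one_left
      rw [← h3, pow_succ, pow_two]
    have ezz : z * z = z⁻¹ := by
      apply eq_inv_of_mul_eq_one_left
      rw [← hz3, pow_succ, pow_two]
    have hzix : z⁻¹ * x⁻¹ = x⁻¹ * z⁻¹ :=
      S.es.central _ (Z.inv_mem hz) _ (R.inv_mem E.hx.1)
    have hziy : z⁻¹ * y = y * z⁻¹ := S.es.central _ (Z.inv_mem hz) _ hy.1
    calc x * (x * y * z) * z = (x * x) * y * (z * z) := by group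
      _ = x⁻¹ * y * z⁻¹ := by rw [exx, ezz]
      _ = x⁻¹ * (y * z⁻¹) := by group
      _ = x⁻¹ * (z⁻¹ * y) := by rw [hziy]
      _ = (x⁻¹ * z⁻¹) * y := by group
      _ = (z⁻¹ * x⁻¹) * y := by rw [hzix]
      _ = (y⁻¹ * x * z)⁻¹ := by group

end TData

end Cfsg.Agent.Lib.Helper6.X648
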