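import Mathlib
import Cfsg.Agent.Lib.Helper6.X648.A11

/-!
# Groups of shape `3^{1+2}.SL(2,3)` with an elementary abelian subgroup of order 27 are
isomorphic to the presented group: the relations and the generation
-/

set_option autoImplicit false

namespace Cfsg.Agent.Lib.Helper6.X648

variable {X : Type*} [Group X]

namespace TData

variable {R Z : Subgroup X} {π : X →* S23} {T : Subgroup X} {t i : X}
  (S : Setting R Z π) (D : TData π T t i)
include S D

theorem rel {x s : X} (E : SData R Z t x s)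
    (hys : s⁻¹ * (i⁻¹ * x * i) * s = x * (i⁻¹ * x * i) * cm x (i⁻¹ * x * i)) : Rel x i s := by
  have hy := D.y_invd S E.hx
  have hz := S.es.cm_mem x E.hx.1 _ hy.1
  have h3 := S.es.exp x E.hx.1
  have hcm : x * (i⁻¹ * x * i) * x⁻¹ * (i⁻¹ * x * i)⁻¹ = cm x (i⁻¹ * x * i) := rfl
  refine ⟨?_, ?_, ?_, E.sx, ?_, ?_, ?_, ?_, ?_, ?_, ?_⟩
  · rw [← h3, pow_succ, pow_two]
  · calc i * i * i * i = (i * i) * (i * i) := by group
      _ = 1 := by rw [D.ii, D.tt]
  · rw [← E.s3, pow_succ, pow_two]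
  · calc i * i * x * i⁻¹ * i⁻¹ = (i * i) * x * (i * i)⁻¹ := by group
      _ = x⁻¹ := by rw [D.ii]; exact E.hx.2
  · rw [hcm]; exact (S.z_central hz x).symm
  · rw [hcm]; exact (S.z_central hz i).symm
  · rw [hcm]; exact (S.z_central hz s).symm
  · rw [D.jj S E, D.ii]
  · rw [hcm]; exact hys
  · exact D.js S E hys

theorem gen {x s : X} (E : SData R Z t x s) : Subgroup.closure ({x, i, s} : Set X) = ⊤ := by
  rw [eq_top_iff]
  intro g _
  set H := Subgroup.closure ({x, i, s} : Set X) with hH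
  have hxH : x ∈ H := Subgroup.subset_closure (by simp)
  have hiH : i ∈ H := Subgroup.subset_closure (by simp)
  have hsH : s ∈ H := Subgroup.subset_closure (by simp)
  have hy := D.y_invd S E.hx
  have hyH : i⁻¹ * x * i ∈ H := H.mul_mem (H.mul_mem (H.inv_mem hiH) hxH) hiH
  have hne := D.cm_xy_ne S E.hx E.hxZ
  have hz := S.es.cm_mem x E.hx.1 _ hy.1
  have hzH : cm x (i⁻¹ * x * i) ∈ H := by
    unfold cm
    exact H.mul_mem (H.mul_mem (H.mul_mem hxH hyH) (H.inv_mem hxH)) (H.inv_mem hyH)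
  have hZH : Z ≤ H := by
    intro z' hz'
    rcases S.es.z_eq_pow hz hne hz' with h | h | h
    · rw [h]; exact H.one_mem
    · rw [h]; exact hzH
    · rw [h]; exact H.pow_mem hzH 2
  have hRH : R ≤ H := by
    intro r hr
    obtain ⟨a, b, -, -, z'', hz'', rfl⟩ := S.es.coords E.hx.1 hy.1 hne r hr
    exact H.mul_mem (H.mul_mem (H.pow_mem hxH a) (H.pow_mem hyH b)) (hZH hz'')
  have hjH : s⁻¹ * i * s ∈ H := H.mul_mem (H.mul_mem (H.inv_mem hsH) hiH) hsH
  -- the image of g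
  have ha : π i * π i = m1 := by rw [← map_mul, D.ii, D.πt]
  have hu1 : π s ≠ 1 := fun h => E.sR ((S.ker s).mp h)
  have hu3 : π s ^ 3 = 1 := by rw [← map_pow, E.s3, map_one]
  obtain ⟨α, β, γ, hg⟩ := gen24 (π i) (π s) (π g) ha hu1 hu3
  have hπ : π (i ^ α.val * (s⁻¹ * i * s) ^ β.val * s ^ γ.val) = π g := by
    rw [hg]
    simp only [map_mul, map_pow, map_inv]
  have hr := S.mem_R_of_map_eq hπ
  have : g = (i ^ α.val * (s⁻¹ * i * s) ^ β.val * s ^ γ.val) *
      ((i ^ α.val * (s⁻¹ * i * s) ^ β.val * s ^ γ.val)⁻¹ * g) := by group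
  rw [this]
  exact H.mul_mem (H.mul_mem (H.mul_mem (H.pow_mem hiH _) (H.pow_mem hjH _)) (H.pow_mem hsH _))
    (hRH hr)

end TData

/-- a group in the setting is isomorphic to the presented group -/
theorem Setting.iso_P [Finite X] {R Z : Subgroup X} {π : X →* S23} (S : Setting R Z π) :
    Nonempty (P ≃* X) := by
  obtain ⟨T, t, i, D⟩ := S.exists_TData
  obtain ⟨x, s0, h1, h2, h3, h4, h5, h6⟩ := D.exists_xs S
  obtain ⟨s, E, hys⟩ := D.exists_s S (⟨h1, h2, h3, h4, h5, h6⟩ : SData R Z t x s0)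
  exact iso_of_rel (D.rel S E hys) (D.gen S E) S.card_X

end Cfsg.Agent.Lib.Helper6.X648
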