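import Mathlib
import Cfsg.Agent.Lib.Helper6.X648.A12

/-!
# Groups of shape `3^{1+2}.SL(2,3)`: every nontrivial normal subgroup contains the centre of
`O_3`; a criterion for a group to be isomorphic to such a group
-/

set_option autoImplicit false

namespace Cfsg.Agent.Lib.Helper6.X648

open Cfsg.Agent.Lib.Helper6.TC Cfsg.Agent.Lib.Helper6.TCD

theorem S23_normal : ∀ g : S23, g ≠ 1 → ∃ h : S23, m1 = g ∨ m1 = g * g ∨ m1 = g * g * g ∨
    m1 = (g * (h * g⁻¹ * h⁻¹)) * (g * (h * g⁻¹ * h⁻¹)) := by decide +kernel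

variable {X : Type*} [Group X]

namespace Setting

variable {R Z : Subgroup X} {π : X →* S23} (S : Setting R Z π)
include S

theorem Z_le_of_mem {N : Subgroup X} {z : X} (hz : z ∈ Z) (hz1 : z ≠ 1) (hzN : z ∈ N) :
    Z ≤ N := by
  intro z' hz'
  rcases S.es.z_eq_pow hz hz1 hz' with h | h | h
  · rw [h]; exact N.one_mem
  · rw [h]; exact hzN
  · rw [h]; exact N.pow_mem hzN 2

/-- every nontrivial normal subgroup contains `Z` -/
theorem Z_le_of_normal [Finite X] (N : Subgroup X) (hN : ∀ g : X, ∀ n ∈ N, g * n * g⁻¹ ∈ N)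
    (hN1 : ∃ n ∈ N, n ≠ 1) : Z ≤ N := by
  by_cases hcase : ∃ r ∈ N, r ∈ R ∧ r ≠ 1
  · obtain ⟨r, hrN, hrR, hr1⟩ := hcase
    by_cases hrZ : r ∈ Z
    · exact S.Z_le_of_mem hrZ hr1 hrN
    · have : ∃ r' ∈ R, r * r' ≠ r' * r := by
        by_contra hcon
        push Not at hcon
        exact hrZ (S.es.mem_of_central r hrR hcon)
      obtain ⟨r', hr', hne⟩ := this
      have h1 : cm r r' ∈ Z := S.es.cm_mem r hrR r' hr'
      have h2 : cm r r' ≠ 1 := fun h => hne ((cm_eq_one_iff r r').mp h)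
      have h3 : cm r r' ∈ N := by
        have : cm r r' = r * (r' * r⁻¹ * r'⁻¹) := by unfold cm; group
        rw [this]
        exact N.mul_mem hrN (hN r' _ (N.inv_mem hrN))
      exact S.Z_le_of_mem h1 h2 h3
  · exfalso
    push Not at hcase
    obtain ⟨n, hnN, hn1⟩ := hN1
    -- `N` centralizes `R`
    have hcent : ∀ m ∈ N, ∀ r ∈ R, m * r = r * m := by
      intro m hm r hr
      rw [← cm_eq_one_iff]
      apply hcase
      · have : cm m r = m * (r * m⁻¹ * r⁻¹) := by unfold cm; group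
        rw [this]
        exact N.mul_mem hm (hN r _ (N.inv_mem hm))
      · have : cm m r = (m * r * m⁻¹) * r⁻¹ := by unfold cm; group
        rw [this]
        exact R.mul_mem (S.nR m r hr) (R.inv_mem hr)
    have hπn : π n ≠ 1 := by
      intro h
      exact hn1 (hcase n hnN ((S.ker n).mp h))
    -- an element of `N` above the central involution
    have hex : ∃ n' ∈ N, π n' = m1 := by
      obtain ⟨h, hh⟩ := S23_normal (π n) hπn
      rcases hh with hh | hh | hh | hh
      · exact ⟨n, hnN, hh.symm⟩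
      · exact ⟨n * n, N.mul_mem hnN hnN, by rw [map_mul, ← hh]⟩
      · exact ⟨n * n * n, N.mul_mem (N.mul_mem hnN hnN) hnN, by rw [map_mul, map_mul, ← hh]⟩
      · obtain ⟨gh, rfl⟩ := S.surj h
        have hk : n * (gh * n⁻¹ * gh⁻¹) ∈ N := N.mul_mem hnN (hN gh _ (N.inv_mem hnN))
        refine ⟨(n * (gh * n⁻¹ * gh⁻¹)) * (n * (gh * n⁻¹ * gh⁻¹)), N.mul_mem hk hk, ?_⟩
        rw [hh]
        simp only [map_mul, map_inv]
    obtain ⟨n', hn'N, hn'⟩ := hex
    obtain ⟨T, t, i, D⟩ := S.exists_TData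
    have hr0 : t⁻¹ * n' ∈ R := S.mem_R_of_map_eq (by rw [D.πt, hn'])
    set r0 := t⁻¹ * n' with hr0_def
    have hn't : t = n' * r0⁻¹ := by rw [hr0_def]; group
    -- `t` acts on `R` as `r0⁻¹`
    have hact : ∀ r ∈ R, t * r * t⁻¹ = r0⁻¹ * r * r0 := by
      intro r hr
      have h1 : r0⁻¹ * r * r0 ∈ R := R.mul_mem (R.mul_mem (R.inv_mem hr0) hr) hr0
      have h2 := hcent n' hn'N _ h1
      calc t * r * t⁻¹ = n' * (r0⁻¹ * r * r0) * n'⁻¹ := by rw [hn't]; group
        _ = (r0⁻¹ * r * r0) * n' * n'⁻¹ := by rw [h2]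
        _ = r0⁻¹ * r * r0 := by group
    have hI := D.inv S
    -- `r0 ^ 2` is central in `R`
    have hsq : r0 * r0 ∈ Z := by
      apply S.es.mem_of_central _ (R.mul_mem hr0 hr0)
      intro r hr
      have h1 := hact r hr
      have h2 := hact _ (S.nR t r hr)
      have h3 : t * (t * r * t⁻¹) * t⁻¹ = r := hI.conj_conj S.es r
      rw [h3, h1] at h2
      calc r0 * r0 * r = r0 * r0 * (r0⁻¹ * (r0⁻¹ * r * r0) * r0) := by rw [← h2]
        _ = r * (r0 * r0) := by group
    have hr0Z : r0 ∈ Z := by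
      have h3 := S.es.exp r0 hr0
      have : r0 = (r0 * r0) * (r0 * r0) * (r0 ^ 3)⁻¹ := by group
      rw [this, h3, inv_one, mul_one]
      exact Z.mul_mem hsq hsq
    obtain ⟨r, hr, hne⟩ := hI.nc
    apply hne
    have h1 := hact r hr
    have h2 : r0⁻¹ * r * r0 = r := by
      have := S.es.central r0 hr0Z r hr
      calc r0⁻¹ * r * r0 = r0⁻¹ * (r * r0) := by group
        _ = r0⁻¹ * (r0 * r) := by rw [this]
        _ = r := by group
    rw [h2] at h1
    calc t * r = t * r * t⁻¹ * t := by group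
      _ = r * t := by rw [h1]

end Setting

/-! ### The generators of the presented group -/

/-- the generator `x` of the presented group -/
noncomputable def gX : P := PresentedGroup.mk (wrels 6 X648U.base) (FreeGroup.of (0 : Fin 6))
/-- the generator `i` of the presented group -/
noncomputable def gI : P := PresentedGroup.mk (wrels 6 X648U.base) (FreeGroup.of (2 : Fin 6))
/-- the generator `s` of the presented group -/
noncomputable def gS : P := PresentedGroup.mk (wrels 6 X648U.base) (FreeGroup.of (4 : Fin 6))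

section gens
variable {Q : Type*} [Group Q] {x i s : Q} (h : Rel x i s)

theorem toQ_gX : toQ h gX = x := wgHom_of (colF x i s) X648U.hbl (rel_list h) (0 : Fin 6)
theorem toQ_gI : toQ h gI = i := wgHom_of (colF x i s) X648U.hbl (rel_list h) (2 : Fin 6)
theorem toQ_gS : toQ h gS = s := wgHom_of (colF x i s) X648U.hbl (rel_list h) (4 : Fin 6)

theorem toQ_z : toQ h (cm gX (gI⁻¹ * gX * gI)) = cm x (i⁻¹ * x * i) := by
  unfold cm
  simp only [map_mul, map_inv, toQ_gX, toQ_gI]

end gens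

namespace Setting

variable {R Z : Subgroup X} {π : X →* S23} (S : Setting R Z π)
include S

/-- the isomorphism with the presented group, with the images of the generators -/
theorem exists_pres [Finite X] : ∃ (x i s : X) (h : Rel x i s), Function.Bijective (toQ h) ∧
    cm x (i⁻¹ * x * i) ∈ Z ∧ cm x (i⁻¹ * x * i) ≠ 1 := by
  obtain ⟨T, t, i, D⟩ := S.exists_TData
  obtain ⟨x, s0, h1, h2, h3, h4, h5, h6⟩ := D.exists_xs S
  obtain ⟨s, E, hys⟩ := D.exists_s S (⟨h1, h2, h3, h4, h5, h6⟩ : SData R Z t x s0)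
  have hrel := D.rel S E hys
  refine ⟨x, i, s, hrel, ?_, ?_, ?_⟩
  · have := card_P_le.1
    have hs := toQ_surjective hrel (D.gen S E)
    have hc1 : Nat.card X ≤ Nat.card P := Nat.card_le_card_of_surjective _ hs
    have hc2 : Nat.card P = Nat.card X :=
      le_antisymm (by rw [S.card_X]; exact card_P_le.2) hc1
    exact (Nat.bijective_iff_surjective_and_card _).mpr ⟨hs, hc2⟩
  · exact S.es.cm_mem x E.hx.1 _ (D.y_invd S E.hx).1
  · exact D.cm_xy_ne S E.hx E.hxZ

/-- a group with the relations in which the central commutator is nontrivial contains the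
presented group -/
theorem inj_of_rel [Finite X] {Q : Type*} [Group Q] {x' i' s' : Q} (h' : Rel x' i' s')
    (hz : cm x' (i'⁻¹ * x' * i') ≠ 1) : Function.Injective (toQ h') := by
  obtain ⟨x, i, s, h, hb, hzZ, hz1⟩ := S.exists_pres
  rw [← MonoidHom.ker_eq_bot_iff]
  by_contra hK
  obtain ⟨⟨k, hk⟩, hk0⟩ := (Subgroup.ne_bot_iff_exists_ne_one).mp hK
  have hk1 : k ≠ 1 := fun h => hk0 (Subtype.ext h)
  set N : Subgroup X := (toQ h').ker.map (toQ h) with hN
  have hNn : ∀ g : X, ∀ n ∈ N, g * n * g⁻¹ ∈ N := by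
    rintro g n ⟨m, hm, rfl⟩
    obtain ⟨g', rfl⟩ := hb.2 g
    refine ⟨g' * m * g'⁻¹, ?_, by simp only [map_mul, map_inv]⟩
    exact (MonoidHom.normal_ker (toQ h')).conj_mem m hm g'
  have hN1 : ∃ n ∈ N, n ≠ 1 := by
    refine ⟨toQ h k, ⟨k, hk, rfl⟩, ?_⟩
    intro h0
    apply hk1
    apply hb.1
    rw [h0, map_one]
  have hZN := S.Z_le_of_normal N hNn hN1
  obtain ⟨m, hm, hmz⟩ := hZN hzZ
  rw [← toQ_z h] at hmz
  have hm' := hb.1 hmz
  rw [hm'] at hm
  apply hz
  rw [← toQ_z h']
  exact hm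

/-- a group of order at most 648 with the relations in which the central commutator is
nontrivial is isomorphic to `X` -/
theorem iso_of_rel_card [Finite X] {Q : Type*} [Group Q] [Finite Q] {x' i' s' : Q}
    (h' : Rel x' i' s') (hz : cm x' (i'⁻¹ * x' * i') ≠ 1) (hc : Nat.card Q ≤ 648) :
    Nonempty (X ≃* Q) ∧ Nat.card Q = 648 := by
  obtain ⟨x, i, s, h, hb, -, -⟩ := S.exists_pres
  have := card_P_le.1
  have hP : Nat.card P = 648 := by
    rw [Nat.card_congr (Equiv.ofBijective _ hb), S.card_X]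
  have hi := S.inj_of_rel h' hz
  have h1 : Nat.card P ≤ Nat.card Q := Nat.card_le_card_of_injective _ hi
  have h2 : Nat.card P = Nat.card Q := le_antisymm h1 (by rw [hP]; exact hc)
  have hb' : Function.Bijective (toQ h') :=
    (Nat.bijective_iff_injective_and_card _).mpr ⟨hi, h2⟩
  exact ⟨⟨(MulEquiv.ofBijective (toQ h) hb).symm.trans (MulEquiv.ofBijective (toQ h') hb')⟩,
    by rw [← h2, hP]⟩

end Setting

end Cfsg.Agent.Lib.Helper6.X648
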