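import Mathlib
import Cfsg.Prelude
import Cfsg.Agent.Lib.Helper6.X648.A13

/-!
# The hypotheses of the statement give the abstract setting
-/

set_option autoImplicit false

namespace Cfsg.Agent.Lib.Helper6.X648

open scoped commutatorElement

variable {X : Type*} [Group X]

/-- the extraspecial setting from the definition of the Prelude -/
theorem es_of_hyp (R : Subgroup X) (hR : Cfsg.IsExtraspecial 3 R) (hRcard : Nat.card R = 27)
    (hRexp : ∀ r ∈ R, r ^ 3 = 1) : ES R ((Subgroup.center R).map R.subtype) := by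
  obtain ⟨⟨-, -, hcomm⟩, hcard⟩ := hR
  refine ⟨?_, hRexp, hRcard, ?_, ?_, ?_, ?_⟩
  · rintro _ ⟨z, -, rfl⟩
    exact z.2
  · rw [Subgroup.card_map_of_injective R.subtype_injective, hcard]
  · intro a ha b hb
    refine ⟨⁅(⟨a, ha⟩ : R), ⟨b, hb⟩⁆, ?_, ?_⟩
    · have : ⁅(⟨a, ha⟩ : R), ⟨b, hb⟩⁆ ∈ commutator R :=
        Subgroup.commutator_mem_commutator (Subgroup.mem_top _) (Subgroup.mem_top _)
      rw [hcomm] at this
      exact this
    · rw [commutatorElement_def]
      rfl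
  · rintro _ ⟨z, hz, rfl⟩ r hr
    have := Subgroup.mem_center_iff.mp hz ⟨r, hr⟩
    have h2 := congrArg Subtype.val this
    exact h2.symm
  · intro r hr hc
    refine ⟨⟨r, hr⟩, ?_, rfl⟩
    show (⟨r, hr⟩ : R) ∈ Subgroup.center R
    rw [Subgroup.mem_center_iff]
    intro g
    apply Subtype.ext
    exact (hc g.1 g.2).symm

/-- the hypotheses of the statement give the setting -/
theorem setting_of_hyp
    (hR : Cfsg.IsExtraspecial 3 (Cfsg.pCore 3 X)) (hRcard : Nat.card (Cfsg.pCore 3 X) = 27)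
    (hRexp : ∀ r ∈ Cfsg.pCore 3 X, r ^ 3 = 1)
    (e : X ⧸ Cfsg.pCore 3 X ≃* Matrix.SpecialLinearGroup (Fin 2) (ZMod 3))
    (hO2 : Cfsg.pCore 2 X = ⊥)
    (hE : ∃ E : Subgroup X, IsMulCommutative E ∧ (∀ a ∈ E, a ^ 3 = 1) ∧ Nat.card E = 27) :
    Setting (Cfsg.pCore 3 X) ((Subgroup.center (Cfsg.pCore 3 X)).map (Cfsg.pCore 3 X).subtype)
      (e.toMonoidHom.comp (QuotientGroup.mk' (Cfsg.pCore 3 X))) := by
  have hes := es_of_hyp (Cfsg.pCore 3 X) hR hRcard hRexp
  have hnR : ∀ g : X, ∀ r ∈ Cfsg.pCore 3 X, g * r * g⁻¹ ∈ Cfsg.pCore 3 X :=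
    fun g r hr => (Cfsg.pCore_normal 3 X).conj_mem r hr g
  refine ⟨hes, hnR, ?_, ?_, ?_, ?_, ?_⟩
  · -- the centre is normal
    intro g z hz
    apply hes.mem_of_central _ (hnR g z (hes.le hz))
    intro r hr
    have h1 : g⁻¹ * r * g ∈ Cfsg.pCore 3 X := by
      have := hnR g⁻¹ r hr
      rwa [inv_inv] at this
    have h2 := hes.central z hz _ h1
    calc g * z * g⁻¹ * r = g * (z * (g⁻¹ * r * g)) * g⁻¹ := by group
      _ = g * ((g⁻¹ * r * g) * z) * g⁻¹ := by rw [h2]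
      _ = r * (g * z * g⁻¹) := by group
  · intro g
    obtain ⟨q, rfl⟩ := e.surjective g
    obtain ⟨x, rfl⟩ := QuotientGroup.mk'_surjective (Cfsg.pCore 3 X) q
    exact ⟨x, rfl⟩
  · intro g
    show e (QuotientGroup.mk' (Cfsg.pCore 3 X) g) = 1 ↔ _
    rw [MulEquiv.map_eq_one_iff, QuotientGroup.mk'_apply, QuotientGroup.eq_one_iff]
  · -- no central involution
    intro t ht hc
    have hcomm : ∀ g : X, g * t = t * g := by
      intro g
      calc g * t = g * t * g⁻¹ * g := by group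
        _ = t * g := by rw [hc g]
    have hn : (Subgroup.zpowers t).Normal := by
      constructor
      intro n hn g
      obtain ⟨k, rfl⟩ := Subgroup.mem_zpowers_iff.mp hn
      have : g * t ^ k * g⁻¹ = (g * t * g⁻¹) ^ k := by rw [conj_zpow]
      rw [this, hc g]
      exact Subgroup.zpow_mem_zpowers t k
    have hp : IsPGroup 2 (Subgroup.zpowers t) := by
      intro g
      refine ⟨1, ?_⟩
      obtain ⟨g, hg⟩ := g
      obtain ⟨k, rfl⟩ := Subgroup.mem_zpowers_iff.mp hg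
      apply Subtype.ext
      show (t ^ k) ^ (2 ^ 1) = 1
      rw [pow_one, pow_two, ← zpow_add, ← two_mul, zpow_mul, zpow_ofNat, pow_two, ht, one_zpow]
    have hle : Subgroup.zpowers t ≤ Cfsg.pCore 2 X := le_sSup ⟨hn, hp⟩
    rw [hO2] at hle
    exact (Subgroup.mem_bot).mp (hle (Subgroup.mem_zpowers t))
  · obtain ⟨E, hEc, hE3, hE27⟩ := hE
    refine ⟨E, ?_, hE3, hE27⟩
    intro a ha b hb
    have := hEc.is_comm.comm (⟨a, ha⟩ : E) ⟨b, hb⟩
    exact congrArg Subtype.val this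

end Cfsg.Agent.Lib.Helper6.X648
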