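import Mathlib
import Cfsg.Prelude
import Cfsg.Agent.S0246
import Cfsg.Agent.Lib.Helper6.X648.A13

/-!
# The centralizer of a transvection in the projective symplectic group of degree 4 over the field
with 3 elements: explicit generators with the relations, and an upper bound for its order
-/

set_option autoImplicit false
set_option maxRecDepth 100000

namespace Cfsg.Agent.Lib.Helper6.X648

open Matrix

/-- the symplectic group of degree 4 over the field with 3 elements -/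
abbrev SpZ : Type := ↥(Matrix.symplecticGroup (Fin 2) (ZMod 3))

/-- the position of an index -/
def idx4 : Fin 2 ⊕ Fin 2 → ℕ
  | Sum.inl a => a.val
  | Sum.inr a => 2 + a.val

/-- a matrix from the list of its rows -/
def ofL (l : List (List ℕ)) : Matrix (Fin 2 ⊕ Fin 2) (Fin 2 ⊕ Fin 2) (ZMod 3) :=
  fun a b => (((l.getD (idx4 a) []).getD (idx4 b) 0 : ℕ) : ZMod 3)

/-- an element of the symplectic group from the list of its rows -/
def mkSp (l : List (List ℕ)) : SpZ :=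
  if h : ofL l * J (Fin 2) (ZMod 3) * (ofL l)ᵀ = J (Fin 2) (ZMod 3) then
    ⟨ofL l, (SymplecticGroup.mem_iff).2 h⟩ else 1

def tL : List (List ℕ) := [[1, 0, 1, 0], [0, 1, 0, 0], [0, 0, 1, 0], [0, 0, 0, 1]]

def xL : List (List ℕ) := [[1, 1, 0, 2], [0, 1, 2, 0], [0, 0, 1, 0], [0, 0, 2, 1]]

def iL : List (List ℕ) := [[1, 0, 0, 0], [0, 1, 0, 2], [0, 0, 1, 0], [0, 2, 0, 2]]

def sL : List (List ℕ) := [[1, 0, 0, 0], [0, 0, 0, 1], [0, 0, 1, 0], [0, 2, 0, 2]]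

def gamL : List (List (List ℕ)) :=
  [[[0, 0, 0, 1], [0, 0, 1, 0], [0, 2, 0, 0], [2, 0, 0, 0]],
   [[0, 0, 0, 1], [1, 0, 0, 0], [0, 2, 0, 0], [0, 0, 1, 0]],
   [[0, 0, 1, 0], [0, 0, 0, 1], [2, 0, 0, 0], [0, 2, 0, 0]],
   [[1, 0, 0, 0], [0, 0, 0, 1], [0, 0, 1, 0], [0, 2, 0, 0]],
   [[0, 0, 0, 1], [1, 0, 0, 0], [0, 2, 0, 0], [1, 0, 1, 0]],
   [[0, 0, 0, 1], [1, 0, 0, 0], [0, 2, 0, 0], [2, 0, 1, 0]],
   [[1, 0, 0, 0], [0, 0, 0, 1], [1, 0, 1, 0], [0, 2, 0, 0]],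
   [[1, 0, 0, 0], [0, 0, 0, 1], [2, 0, 1, 0], [0, 2, 0, 0]],
   [[0, 0, 0, 1], [0, 0, 1, 1], [1, 2, 0, 0], [2, 0, 0, 0]],
   [[0, 0, 0, 1], [0, 0, 1, 2], [2, 2, 0, 0], [2, 0, 0, 0]],
   [[0, 0, 0, 1], [1, 0, 0, 0], [1, 2, 0, 0], [0, 0, 1, 1]],
   [[0, 0, 0, 1], [1, 0, 0, 0], [2, 2, 0, 0], [0, 0, 1, 2]],
   [[1, 0, 0, 0], [0, 0, 0, 1], [0, 0, 1, 1], [1, 2, 0, 0]],
   [[1, 0, 0, 0], [0, 0, 0, 1], [0, 0, 1, 2], [2, 2, 0, 0]],
   [[1, 0, 0, 0], [1, 0, 0, 1], [0, 1, 1, 0], [0, 2, 0, 0]],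
   [[1, 0, 0, 0], [2, 0, 0, 1], [0, 2, 1, 0], [0, 2, 0, 0]],
   [[0, 0, 0, 1], [1, 0, 0, 0], [1, 2, 0, 0], [1, 0, 1, 1]],
   [[0, 0, 0, 1], [1, 0, 0, 0], [1, 2, 0, 0], [2, 0, 1, 1]],
   [[0, 0, 0, 1], [1, 0, 0, 0], [2, 2, 0, 0], [1, 0, 1, 2]],
   [[0, 0, 0, 1], [1, 0, 0, 0], [2, 2, 0, 0], [2, 0, 1, 2]],
   [[1, 0, 0, 0], [0, 0, 0, 1], [1, 0, 1, 1], [1, 2, 0, 0]],
   [[1, 0, 0, 0], [0, 0, 0, 1], [1, 0, 1, 2], [2, 2, 0, 0]],
   [[1, 0, 0, 0], [0, 0, 0, 1], [2, 0, 1, 1], [1, 2, 0, 0]],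
   [[1, 0, 0, 0], [0, 0, 0, 1], [2, 0, 1, 2], [2, 2, 0, 0]],
   [[1, 0, 0, 0], [1, 0, 0, 1], [1, 1, 1, 0], [0, 2, 0, 0]],
   [[1, 0, 0, 0], [1, 0, 0, 1], [2, 1, 1, 0], [0, 2, 0, 0]],
   [[1, 0, 0, 0], [2, 0, 0, 1], [1, 2, 1, 0], [0, 2, 0, 0]],
   [[1, 0, 0, 0], [2, 0, 0, 1], [2, 2, 1, 0], [0, 2, 0, 0]],
   [[1, 0, 0, 1], [1, 0, 0, 0], [0, 2, 0, 0], [1, 1, 1, 0]],
   [[1, 0, 0, 1], [1, 0, 0, 0], [0, 2, 0, 0], [2, 1, 1, 0]],
   [[1, 0, 0, 1], [2, 0, 0, 0], [0, 2, 0, 0], [1, 2, 2, 0]],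
   [[1, 0, 0, 1], [2, 0, 0, 0], [0, 2, 0, 0], [2, 2, 2, 0]],
   [[1, 0, 0, 0], [1, 0, 0, 1], [1, 1, 1, 0], [1, 2, 0, 1]],
   [[1, 0, 0, 0], [1, 0, 0, 1], [1, 1, 1, 0], [2, 2, 0, 2]],
   [[1, 0, 0, 0], [1, 0, 0, 1], [2, 1, 1, 0], [1, 2, 0, 1]],
   [[1, 0, 0, 0], [1, 0, 0, 1], [2, 1, 1, 0], [2, 2, 0, 2]],
   [[1, 0, 0, 0], [2, 0, 0, 1], [1, 2, 1, 0], [1, 2, 0, 2]],
   [[1, 0, 0, 0], [2, 0, 0, 1], [1, 2, 1, 0], [2, 2, 0, 1]],
   [[1, 0, 0, 0], [2, 0, 0, 1], [2, 2, 1, 0], [1, 2, 0, 2]],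
   [[1, 0, 0, 0], [2, 0, 0, 1], [2, 2, 1, 0], [2, 2, 0, 1]]]

def conL : List (List (List ℕ)) :=
  [[[1, 0, 0, 0], [0, 1, 0, 0], [0, 0, 1, 0], [0, 2, 0, 1]],
   [[1, 0, 0, 0], [0, 1, 0, 1], [0, 0, 1, 0], [0, 0, 0, 1]],
   [[1, 0, 0, 0], [0, 1, 0, 0], [2, 0, 1, 0], [0, 0, 0, 1]],
   [[1, 0, 1, 0], [0, 1, 0, 0], [0, 0, 1, 0], [0, 0, 0, 1]],
   [[1, 0, 0, 0], [0, 0, 0, 1], [0, 0, 1, 0], [0, 2, 0, 2]],
   [[1, 0, 0, 0], [0, 2, 0, 1], [0, 0, 1, 0], [0, 2, 0, 0]],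
   [[0, 0, 1, 0], [0, 1, 0, 0], [2, 0, 2, 0], [0, 0, 0, 1]],
   [[2, 0, 1, 0], [0, 1, 0, 0], [2, 0, 0, 0], [0, 0, 0, 1]],
   [[1, 0, 0, 0], [0, 1, 0, 0], [2, 1, 1, 0], [1, 2, 0, 1]],
   [[1, 0, 0, 0], [0, 1, 0, 0], [2, 2, 1, 0], [2, 2, 0, 1]],
   [[1, 0, 0, 0], [2, 1, 0, 1], [2, 0, 1, 1], [0, 0, 0, 1]],
   [[1, 0, 0, 0], [1, 1, 0, 1], [2, 0, 1, 2], [0, 0, 0, 1]],
   [[1, 2, 1, 0], [0, 1, 0, 0], [0, 0, 1, 0], [0, 2, 1, 1]],
   [[1, 1, 1, 0], [0, 1, 0, 0], [0, 0, 1, 0], [0, 2, 2, 1]],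
   [[1, 0, 1, 1], [0, 1, 1, 1], [0, 0, 1, 0], [0, 0, 0, 1]],
   [[1, 0, 1, 2], [0, 1, 2, 1], [0, 0, 1, 0], [0, 0, 0, 1]],
   [[1, 0, 0, 0], [2, 0, 0, 1], [2, 2, 1, 1], [2, 2, 0, 2]],
   [[1, 0, 0, 0], [2, 2, 0, 1], [2, 1, 1, 1], [1, 2, 0, 0]],
   [[1, 0, 0, 0], [1, 0, 0, 1], [2, 1, 1, 2], [1, 2, 0, 2]],
   [[1, 0, 0, 0], [1, 2, 0, 1], [2, 2, 1, 2], [2, 2, 0, 0]],
   [[0, 2, 1, 0], [0, 1, 0, 0], [2, 2, 2, 0], [2, 2, 1, 1]],
   [[0, 1, 1, 0], [0, 1, 0, 0], [2, 1, 2, 0], [1, 2, 2, 1]],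
   [[2, 2, 1, 0], [0, 1, 0, 0], [2, 1, 0, 0], [1, 2, 1, 1]],
   [[2, 1, 1, 0], [0, 1, 0, 0], [2, 2, 0, 0], [2, 2, 2, 1]],
   [[0, 0, 1, 1], [2, 1, 1, 1], [2, 0, 2, 1], [0, 0, 0, 1]],
   [[2, 0, 1, 1], [1, 1, 1, 1], [2, 0, 0, 2], [0, 0, 0, 1]],
   [[0, 0, 1, 2], [1, 1, 2, 1], [2, 0, 2, 2], [0, 0, 0, 1]],
   [[2, 0, 1, 2], [2, 1, 2, 1], [2, 0, 0, 1], [0, 0, 0, 1]],
   [[1, 2, 1, 1], [0, 0, 1, 1], [0, 0, 1, 0], [0, 2, 1, 2]],
   [[1, 1, 1, 1], [0, 2, 1, 1], [0, 0, 1, 0], [0, 2, 2, 0]],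
   [[1, 2, 1, 2], [0, 2, 2, 1], [0, 0, 1, 0], [0, 2, 1, 0]],
   [[1, 1, 1, 2], [0, 0, 2, 1], [0, 0, 1, 0], [0, 2, 2, 2]],
   [[0, 2, 1, 1], [2, 0, 1, 1], [2, 2, 2, 1], [2, 2, 1, 2]],
   [[0, 1, 1, 1], [2, 2, 1, 1], [2, 1, 2, 1], [1, 2, 2, 0]],
   [[2, 2, 1, 1], [1, 0, 1, 1], [2, 1, 0, 2], [1, 2, 1, 2]],
   [[2, 1, 1, 1], [1, 2, 1, 1], [2, 2, 0, 2], [2, 2, 2, 0]],
   [[0, 2, 1, 2], [1, 2, 2, 1], [2, 2, 2, 2], [2, 2, 1, 0]],
   [[0, 1, 1, 2], [1, 0, 2, 1], [2, 1, 2, 2], [1, 2, 2, 2]],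
   [[2, 2, 1, 2], [2, 2, 2, 1], [2, 1, 0, 1], [1, 2, 1, 0]],
   [[2, 1, 1, 2], [2, 0, 2, 1], [2, 2, 0, 1], [2, 2, 2, 2]]]

/-- the transvection -/
def tZ : SpZ := mkSp tL
/-- the generator `x` -/
def xZ : SpZ := mkSp xL
/-- the generator `i` -/
def iZ : SpZ := mkSp iL
/-- the generator `s` -/
def sZ : SpZ := mkSp sL
/-- the conjugating elements -/
def gam (k : Fin 40) : SpZ := mkSp (gamL.getD k.val [])
/-- the conjugates of the transvection -/
def con (k : Fin 40) : SpZ := mkSp (conL.getD k.val [])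

/-- minus the identity -/
abbrev nZ : SpZ := Cfsg.Agent.S0246.negOne 2 (ZMod 3)

theorem relZ : Rel xZ iZ sZ :=
  ⟨by decide +kernel, by decide +kernel, by decide +kernel, by decide +kernel, by decide +kernel,
   by decide +kernel, by decide +kernel, by decide +kernel, by decide +kernel, by decide +kernel,
   by decide +kernel⟩

theorem xZ_comm : tZ * xZ = xZ * tZ := by decide +kernel
theorem iZ_comm : tZ * iZ = iZ * tZ := by decide +kernel
theorem sZ_comm : tZ * sZ = sZ * tZ := by decide +kernel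

theorem cmZ : cm xZ (iZ⁻¹ * xZ * iZ) = tZ := by decide +kernel

theorem tZ_ne : tZ ≠ 1 ∧ tZ ≠ nZ := by decide +kernel

theorem tZ_pow : tZ ^ 3 = 1 := by decide +kernel

theorem gam_con : ∀ k : Fin 40, gam k * tZ = con k * gam k := by decide +kernel

theorem con_inj : ∀ k l : Fin 40, (con l = con k ∨ con l = nZ * con k) → k = l := by
  decide +kernel

/-! ### Transport to a quotient by the centre -/

section counting

/-- a lower bound for the index of a centralizer from a list of distinct conjugates -/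
theorem card_centralizer_mul_le {G : Type*} [Group G] [Finite G] (c : G) (n : ℕ) (g : Fin n → G)
    (hinj : Function.Injective (fun k => g k * c * (g k)⁻¹)) :
    n * Nat.card (Subgroup.centralizer ({c} : Set G)) ≤ Nat.card G := by
  have hf : Function.Injective
      (fun q : Fin n × Subgroup.centralizer ({c} : Set G) => g q.1 * (q.2 : G)) := by
    rintro ⟨k, y⟩ ⟨l, y'⟩ h
    have h0 : g k * (y : G) = g l * (y' : G) := h
    have hy : c * (y : G) = (y : G) * c := by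
      have := Subgroup.mem_centralizer_iff.mp y.2 c (Set.mem_singleton c)
      exact this
    have hy' : c * (y' : G) = (y' : G) * c := by
      have := Subgroup.mem_centralizer_iff.mp y'.2 c (Set.mem_singleton c)
      exact this
    have h1 : g k * c * (g k)⁻¹ = g l * c * (g l)⁻¹ := by
      calc g k * c * (g k)⁻¹ = (g k * (y : G)) * c * (g k * (y : G))⁻¹ := by
            have : (g k * (y : G)) * c * (g k * (y : G))⁻¹ = g k * ((y : G) * c) * (y : G)⁻¹ * (g k)⁻¹ := by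
              group
            rw [this, ← hy]; group
        _ = (g l * (y' : G)) * c * (g l * (y' : G))⁻¹ := by rw [h0]
        _ = g l * c * (g l)⁻¹ := by
            have : (g l * (y' : G)) * c * (g l * (y' : G))⁻¹ = g l * ((y' : G) * c) * (y' : G)⁻¹ * (g l)⁻¹ := by
              group
            rw [this, ← hy']; group
    have hkl : k = l := hinj h1
    subst hkl
    have : (y : G) = (y' : G) := mul_left_cancel h0
    rw [Subtype.ext this]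
  have := Nat.card_le_card_of_injective _ hf
  rwa [Nat.card_prod, Nat.card_fin] at this

end counting

section transport

variable {Q Q' : Type*} [Group Q] [Group Q']

theorem Rel.map (f : Q →* Q') {x i s : Q} (h : Rel x i s) : Rel (f x) (f i) (f s) := by
  refine ⟨?_, ?_, ?_, ?_, ?_, ?_, ?_, ?_, ?_, ?_, ?_⟩
  · have := congrArg f h.x3; simpa only [map_mul, map_inv, map_one] using this
  · have := congrArg f h.i4; simpa only [map_mul, map_inv, map_one] using this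
  · have := congrArg f h.s3; simpa only [map_mul, map_inv, map_one] using this
  · have := congrArg f h.sx; simpa only [map_mul, map_inv, map_one] using this
  · have := congrArg f h.tx; simpa only [map_mul, map_inv, map_one] using this
  · have := congrArg f h.zx; simpa only [map_mul, map_inv, map_one] using this
  · have := congrArg f h.zi; simpa only [map_mul, map_inv, map_one] using this
  · have := congrArg f h.zs; simpa only [map_mul, map_inv, map_one] using this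
  · have := congrArg f h.jj; simpa only [map_mul, map_inv, map_one] using this
  · have := congrArg f h.ys; simpa only [map_mul, map_inv, map_one] using this
  · have := congrArg f h.js; simpa only [map_mul, map_inv, map_one] using this

theorem Rel.of_map (f : Q →* Q') (hf : Function.Injective f) {x i s : Q}
    (h : Rel (f x) (f i) (f s)) : Rel x i s := by
  refine ⟨?_, ?_, ?_, ?_, ?_, ?_, ?_, ?_, ?_, ?_, ?_⟩
  · apply hf; simpa only [map_mul, map_inv, map_one] using h.x3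
  · apply hf; simpa only [map_mul, map_inv, map_one] using h.i4
  · apply hf; simpa only [map_mul, map_inv, map_one] using h.s3
  · apply hf; simpa only [map_mul, map_inv, map_one] using h.sx
  · apply hf; simpa only [map_mul, map_inv, map_one] using h.tx
  · apply hf; simpa only [map_mul, map_inv, map_one] using h.zx
  · apply hf; simpa only [map_mul, map_inv, map_one] using h.zi
  · apply hf; simpa only [map_mul, map_inv, map_one] using h.zs
  · apply hf; simpa only [map_mul, map_inv, map_one] using h.jj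
  · apply hf; simpa only [map_mul, map_inv, map_one] using h.ys
  · apply hf; simpa only [map_mul, map_inv, map_one] using h.js

end transport

section hom

variable {G : Type*} [Group G] (η : SpZ →* G)
  (hker : ∀ g : SpZ, η g = 1 ↔ g = 1 ∨ g = nZ)
include hker

theorem eta_eq_iff (a b : SpZ) : η a = η b ↔ b = a ∨ b = nZ * a := by
  have h1 : η a = η b ↔ η (b * a⁻¹) = 1 := by
    rw [map_mul, map_inv, mul_inv_eq_one, eq_comm]
  rw [h1, hker, mul_inv_eq_one, mul_inv_eq_iff_eq_mul]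

theorem eta_t_ne : η tZ ≠ 1 := by
  intro h
  rcases (hker tZ).mp h with h | h
  · exact tZ_ne.1 h
  · exact tZ_ne.2 h

theorem orderOf_eta_t : orderOf (η tZ) = 3 := by
  have : Fact (Nat.Prime 3) := ⟨Nat.prime_three⟩
  apply orderOf_eq_prime
  · rw [← map_pow, tZ_pow, map_one]
  · exact eta_t_ne η hker

omit hker in
theorem mem_centralizer_of_comm {a : SpZ} (ha : tZ * a = a * tZ) :
    η a ∈ Subgroup.centralizer ({η tZ} : Set G) := by
  rw [Subgroup.mem_centralizer_iff]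
  intro h hh
  rw [Set.mem_singleton_iff] at hh
  rw [hh, ← map_mul, ← map_mul, ha]

theorem card_centralizer_le [Finite G] (hcard : Nat.card G = 25920) :
    Nat.card (Subgroup.centralizer ({η tZ} : Set G)) ≤ 648 := by
  have h := card_centralizer_mul_le (η tZ) 40 (fun k => η (gam k)) (by
    intro k l hkl
    have h1 : ∀ k : Fin 40, η (gam k) * η tZ * (η (gam k))⁻¹ = η (con k) := by
      intro k
      rw [← map_mul, gam_con, map_mul]; group
    simp only [h1] at hkl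
    rw [eta_eq_iff η hker] at hkl
    exact con_inj k l hkl)
  rw [hcard] at h
  omega

/-- the concrete group -/
theorem concrete [Finite G] (hcard : Nat.card G = 25920) :
    ∃ c : G, orderOf c = 3 ∧ Nat.card (Subgroup.centralizer ({c} : Set G)) ≤ 648 ∧
      ∃ x i s : Subgroup.centralizer ({c} : Set G), Rel x i s ∧ cm x (i⁻¹ * x * i) ≠ 1 := by
  refine ⟨η tZ, orderOf_eta_t η hker, card_centralizer_le η hker hcard,
    ⟨η xZ, mem_centralizer_of_comm η xZ_comm⟩, ⟨η iZ, mem_centralizer_of_comm η iZ_comm⟩,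
    ⟨η sZ, mem_centralizer_of_comm η sZ_comm⟩, ?_, ?_⟩
  · apply Rel.of_map (Subgroup.centralizer ({η tZ} : Set G)).subtype Subtype.val_injective
    exact Rel.map η relZ
  · intro h
    have h1 := congrArg (Subgroup.centralizer ({η tZ} : Set G)).subtype h
    unfold cm at h1
    simp only [map_mul, map_inv, map_one, Subgroup.coe_subtype] at h1
    have h2 : η (cm xZ (iZ⁻¹ * xZ * iZ)) = 1 := by
      unfold cm
      simp only [map_mul, map_inv]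
      exact h1
    rw [cmZ] at h2
    exact eta_t_ne η hker h2

end hom

end Cfsg.Agent.Lib.Helper6.X648
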