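import Mathlib
import Cfsg.Prelude
import Cfsg.Agent.Lib.Helper6.X648.B1
import Cfsg.Agent.Lib.Helper6.X648.C1
import Cfsg.Agent.Lib.Helper5.SylSp4c
import Cfsg.Agent.Lib.Helper1.SUCongr

/-!
# The group `3^{1+2}:SL(2,3)` with an elementary abelian subgroup of order 27 is the centralizer
of a 3-central element of the projective symplectic group of degree 4 over the field with 3
elements
-/

set_option autoImplicit false

namespace Cfsg.Agent.Lib.Helper6.X648

theorem factorization_648_3 : (648 : ℕ).factorization 3 = 4 := by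
  have h1 : (648:ℕ) = 3^4 * 8 := by norm_num
  have h2 : (Nat.factorization 8) 3 = 0 :=
    Nat.factorization_eq_zero_of_not_dvd (by norm_num : ¬ (3 ∣ 8))
  have h3 : (Nat.factorization (3^4)) 3 = 4 := by
    rw [Nat.factorization_pow, Finsupp.smul_apply, Nat.Prime.factorization_self Nat.prime_three]
    rfl
  rw [h1, Nat.factorization_mul (by norm_num) (by norm_num), Finsupp.add_apply, h2, h3]

theorem factorization_25920_3 : (25920 : ℕ).factorization 3 = 4 := by
  have h1 : (25920:ℕ) = 3^4 * 320 := by norm_num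
  have h2 : (Nat.factorization 320) 3 = 0 :=
    Nat.factorization_eq_zero_of_not_dvd (by norm_num : ¬ (3 ∣ 320))
  have h3 : (Nat.factorization (3^4)) 3 = 4 := by
    rw [Nat.factorization_pow, Finsupp.smul_apply, Nat.Prime.factorization_self Nat.prime_three]
    rfl
  rw [h1, Nat.factorization_mul (by norm_num) (by norm_num), Finsupp.add_apply, h2, h3]

/-- the centralizer of an element of order 3 which has order 648 in a group of order 25920
contains a Sylow 3-subgroup -/
theorem exists_sylow {G : Type*} [Group G] [Finite G] (hcard : Nat.card G = 25920) (c : G)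
    (hc : orderOf c = 3) (hY : Nat.card (Subgroup.centralizer ({c} : Set G)) = 648) :
    ∃ P : Sylow 3 G, c ∈ (P : Subgroup G) ∧
      c ∈ Subgroup.centralizer ((P : Subgroup G) : Set G) := by
  have : Fact (Nat.Prime 3) := ⟨Nat.prime_three⟩
  set Y := Subgroup.centralizer ({c} : Set G) with hYdef
  have hcY : c ∈ Y := by
    rw [hYdef, Subgroup.mem_centralizer_iff]
    intro h hh
    rw [Set.mem_singleton_iff] at hh
    rw [hh]
  have hH : IsPGroup 3 (Subgroup.zpowers (⟨c, hcY⟩ : Y)) := by
    apply IsPGroup.of_card (n := 1)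
    rw [Nat.card_zpowers, Subgroup.orderOf_mk, hc, pow_one]
  obtain ⟨Q, hQ⟩ := hH.exists_le_sylow
  have hQc : (⟨c, hcY⟩ : Y) ∈ (Q : Subgroup Y) := hQ (Subgroup.mem_zpowers _)
  have hQcard : Nat.card (Q : Subgroup Y) = 81 := by
    rw [Sylow.card_eq_multiplicity, hY, factorization_648_3]; norm_num
  have hQ'p : IsPGroup 3 ((Q : Subgroup Y).map Y.subtype) := Q.2.map _
  have hQ'card : Nat.card ((Q : Subgroup Y).map Y.subtype) = 81 := by
    rw [Subgroup.card_map_of_injective Y.subtype_injective, hQcard]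
  obtain ⟨P, hP⟩ := hQ'p.exists_le_sylow
  have hPcard : Nat.card (P : Subgroup G) = 81 := by
    rw [Sylow.card_eq_multiplicity, hcard, factorization_25920_3]; norm_num
  have hEq : (Q : Subgroup Y).map Y.subtype = (P : Subgroup G) :=
    Subgroup.eq_of_le_of_card_ge hP (by rw [hPcard, hQ'card])
  refine ⟨P, ?_, ?_⟩
  · rw [← hEq]
    exact ⟨⟨c, hcY⟩, hQc, rfl⟩
  · rw [Subgroup.mem_centralizer_iff]
    intro h hh
    have hh' : h ∈ (Q : Subgroup Y).map Y.subtype := by rw [hEq]; exact hh
    obtain ⟨y, -, rfl⟩ := hh'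
    have := Subgroup.mem_centralizer_iff.mp y.2 c (Set.mem_singleton c)
    exact this.symm

/-- the generic form of the theorem -/
theorem main_generic {X : Type*} [Group X] [Finite X] {R Z : Subgroup X} {π : X →* S23}
    (S : Setting R Z π) {G : Type*} [Group G] [Finite G] (η : SpZ →* G)
    (hker : ∀ g : SpZ, η g = 1 ↔ g = 1 ∨ g = nZ) (hcard : Nat.card G = 25920) :
    ∃ (c : G) (P : Sylow 3 G), orderOf c = 3 ∧ c ∈ (P : Subgroup G) ∧
      c ∈ Subgroup.centralizer ((P : Subgroup G) : Set G) ∧
      Nonempty (X ≃* Subgroup.centralizer ({c} : Set G)) := by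
  obtain ⟨c, hc, hle, x, i, s, hrel, hz⟩ := concrete η hker hcard
  obtain ⟨hiso, hY⟩ := S.iso_of_rel_card hrel hz hle
  obtain ⟨P, h1, h2⟩ := exists_sylow hcard c hc hY
  exact ⟨c, P, hc, h1, h2, hiso⟩

/-- the homomorphism from the symplectic group over `ZMod 3` onto the projective symplectic
group over a field with 3 elements -/
noncomputable def etaF (F : Type*) [Field F] [Fintype F] (hF : Fintype.card F = 3) :
    SpZ →* Cfsg.PSp 2 F :=
  (QuotientGroup.mk' (Subgroup.center (Matrix.symplecticGroup (Fin 2) F))).comp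
    (Cfsg.Agent.Lib.Helper5.SylSp4.spCongr'
      (ZMod.ringEquivOfPrime F Nat.prime_three hF)).toMonoidHom

theorem etaF_ker (F : Type*) [Field F] [Fintype F] (hF : Fintype.card F = 3) (g : SpZ) :
    etaF F hF g = 1 ↔ g = 1 ∨ g = nZ := by
  show (QuotientGroup.mk (Cfsg.Agent.Lib.Helper5.SylSp4.spCongr'
      (ZMod.ringEquivOfPrime F Nat.prime_three hF) g) : Cfsg.PSp 2 F) = 1 ↔ _
  rw [QuotientGroup.eq_one_iff, Cfsg.Agent.S0246.mem_center_iff (by norm_num),
    ← Cfsg.Agent.Lib.Helper5.SylSp4.spCongr'_negOne (ZMod.ringEquivOfPrime F Nat.prime_three hF),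
    (Cfsg.Agent.Lib.Helper5.SylSp4.spCongr' _).injective.eq_iff, MulEquiv.map_eq_one_iff]

theorem card_PSpF (F : Type*) [Field F] [Fintype F] (hF : Fintype.card F = 3) :
    Nat.card (Cfsg.PSp 2 F) = 25920 := by
  have h1 := Cfsg.Agent.S0245.result hF 2
  have h2 := Cfsg.Agent.S0246.result hF 2 (by norm_num)
  have h3 := Subgroup.card_eq_card_quotient_mul_card_subgroup
    (Subgroup.center (Matrix.symplecticGroup (Fin 2) F))
  rw [h1, h2] at h3
  simp [Finset.prod_range_succ] at h3
  show Nat.card (Matrix.symplecticGroup (Fin 2) F ⧸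
    Subgroup.center (Matrix.symplecticGroup (Fin 2) F)) = _
  omega

end Cfsg.Agent.Lib.Helper6.X648
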